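import Cfsg.Agent.PrimePairs.Basic
import Cfsg.Agent.CITGroups.Final
import Cfsg.Agent.CITGroups.ListOrders

/-!
The simple CIT groups in which no prime divides three element orders.
-/

set_option autoImplicit false
set_option linter.unusedSectionVars false
set_option linter.style.haveILetI false

namespace CfsgLib.PrimePairs

open Subgroup Matrix CfsgLib.CNStruct

universe u

theorem cit_shape {S : Type u} [Group S] [Finite S] [IsSimpleGroup S] (hns : ¬ Group.IsSolvable S)
    (hcit : CfsgLib.CIT.IsCIT S) : Shape S := by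
  classical
  haveI : Fact (Nat.Prime 3) := ⟨Nat.prime_three⟩
  rcases CfsgLib.CIT.simple_cit hcit hns with
    ⟨F, hf, hfi, hF, ⟨e⟩⟩ | ⟨F, hf, hfi, hF, ⟨e⟩⟩ | ⟨F, hf, hfi, m, hm, hF, ⟨e⟩⟩
  · letI := hf; letI := hfi
    haveI : IsSimpleGroup (Matrix.ProjectiveSpecialLinearGroup (Fin 2) F) := e.isSimpleGroup_congr.1 inferInstance
    have hns' : ¬ Group.IsSolvable (Matrix.ProjectiveSpecialLinearGroup (Fin 2) F) := fun h => hns (by
      haveI := h
      exact Group.isSolvable_of_isSolvable_injective (f := e.toMonoidHom) e.injective)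
    have hc := CfsgLib.Linear.Small.card_psl_two (F := F) rfl
    have h23 : Fintype.card F ≠ 2 ∧ Fintype.card F ≠ 3 := by
      refine ⟨fun hq => hns' ?_, fun hq => hns' ?_⟩
      · rw [hq] at hc
        norm_num [-Nat.card_eq_fintype_card] at hc
        exfalso
        obtain ⟨x, hx⟩ := exists_prime_orderOf_dvd_card' (G := Matrix.ProjectiveSpecialLinearGroup (Fin 2) F) 3
          (by rw [show Nat.card (Matrix.ProjectiveSpecialLinearGroup (Fin 2) F) = 6 by omega]; norm_num)
        have hi := Subgroup.card_mul_index (zpowers x)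
        rw [Nat.card_zpowers, hx, show Nat.card (Matrix.ProjectiveSpecialLinearGroup (Fin 2) F) = 6 by omega] at hi
        haveI := Subgroup.normal_of_index_eq_two (H := zpowers x) (by omega)
        rcases (inferInstance : (zpowers x).Normal).eq_bot_or_eq_top with h | h
        · rw [zpowers_eq_bot] at h
          rw [h, orderOf_one] at hx; omega
        · rw [h, Subgroup.index_top] at hi; omega
      · obtain ⟨e'⟩ := CfsgLib.Linear.Small.nonempty_psl_two_three hq
        haveI : IsSimpleGroup (alternatingGroup (Fin 4)) := e'.isSimpleGroup_congr.1 inferInstance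
        have h4 : Nat.card (Fin 4) = 4 := by rw [Nat.card_eq_fintype_card, Fintype.card_fin]
        have hV := alternatingGroup.kleinFour_card_of_card_eq_four h4
        rcases (alternatingGroup.normal_kleinFour h4).eq_bot_or_eq_top with h | h
        · rw [h, Subgroup.card_bot] at hV
          omega
        · exfalso
          rw [h, Subgroup.card_top, Nat.card_congr e'.symm.toEquiv] at hV
          rw [hq] at hc
          norm_num [-Nat.card_eq_fintype_card] at hc
          omega
    rcases hF with h9 | ⟨n, hn⟩ | ⟨hp, k, hk⟩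
    · exact .nine F h9 e
    · refine .even F n ?_ hn e
      rcases n with _ | _ | n
      · rw [pow_zero] at hn; exact absurd hn (Fintype.one_lt_card (α := F)).ne'
      · exact absurd (by rw [hn]; rfl) h23.1
      · omega
    · by_cases h5 : Fintype.card F = 5
      · haveI : Fact (Nat.Prime 2) := ⟨Nat.prime_two⟩
        haveI := Fintype.ofFinite (GaloisField 2 2)
        have hK : Fintype.card (GaloisField 2 2) = 4 := by
          rw [← Nat.card_eq_fintype_card, GaloisField.card 2 2 (by norm_num)]; rfl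
        obtain ⟨e5⟩ := CfsgLib.Linear.Small.nonempty_psl_two_five h5
        haveI : IsSimpleGroup (Matrix.ProjectiveSpecialLinearGroup (Fin 2) (GaloisField 2 2)) :=
          CfsgLib.Linear.isSimpleGroup_PSL (ι := Fin 2) (F := GaloisField 2 2)
            (Or.inr (CfsgLib.Linear.Small.exists_sq_ne_one (by omega)))
        haveI : Fact (Nat.Prime 5) := ⟨by norm_num⟩
        have hc4 := CfsgLib.Linear.Small.card_psl_two hK
        norm_num [-Nat.card_eq_fintype_card] at hc4
        obtain ⟨P⟩ : Nonempty (Sylow 5 (Matrix.ProjectiveSpecialLinearGroup (Fin 2) (GaloisField 2 2))) := Sylow.nonempty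
        obtain ⟨e4⟩ := CfsgLib.Dickson.OrderSixty.nonempty_mulEquiv (by omega) P fun hn => by
          have hP := CfsgLib.Dickson.OrderSixty.card_eq_five (by omega) P
          rcases hn.eq_bot_or_eq_top with h1 | h1
          · rw [h1, Subgroup.card_bot] at hP; omega
          · rw [h1, Subgroup.card_top] at hP; omega
        exact .even (GaloisField 2 2) 2 le_rfl hK ((e.trans e5).trans e4.symm)
      · have h7 : 7 ≤ Fintype.card F ∨ Fintype.card F = 2 := by
          have := hp.two_le
          by_contra h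
          push Not at h
          have : Fintype.card F = 4 ∨ Fintype.card F = 6 := by omega
          rcases this with h' | h' <;> rw [h'] at hp <;> norm_num at hp
        rcases h7 with h7 | h2
        · refine .big F hp h7 ?_ e
          have h3k : 3 ≤ k := by
            by_contra hlt
            have : 2 ^ k ≤ 2 ^ 2 := Nat.pow_le_pow_right two_pos (by omega)
            omega
          obtain ⟨k', rfl⟩ : ∃ k', k = k' + 3 := ⟨k - 3, by omega⟩
          rw [pow_add] at hk
          norm_num at hk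
          omega
        · exact absurd h2 h23.1
  · exact .plane F hF e
  · exact .suzuki F m (CfsgLib.Suzuki.isSzField_of_card hm hF)
      (e.trans (CfsgLib.Suzuki.lieEquiv (CfsgLib.Suzuki.isSzField_of_card hm hF)).symm)

variable {S : Type u} [Group S] [Finite S]

/-- A copy of `PSL₂(p)`, `p ≡ ±1 mod 8`, has an element of order a multiple of four. -/
theorem big_four {F : Type} [Field F] [Fintype F] (h7 : 7 ≤ Fintype.card F)
    (h8 : Fintype.card F % 8 = 1 ∨ Fintype.card F % 8 = 7)
    (e : S ≃* Matrix.ProjectiveSpecialLinearGroup (Fin 2) F) :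
    ∃ x : S, 4 ∣ orderOf x ∧ 7 ≤ 2 * orderOf x ∧
      (2 * orderOf x + 1 = Fintype.card F ∨ 2 * orderOf x = Fintype.card F + 1) := by
  obtain ⟨⟨x, hx⟩, ⟨y, hy⟩⟩ := exists_orders_odd e (Nat.odd_iff.2 (by omega))
  rcases h8 with h8 | h8
  · exact ⟨x, hx ▸ Nat.dvd_of_mod_eq_zero (by omega), by omega, Or.inl (by omega)⟩
  · exact ⟨y, hy ▸ Nat.dvd_of_mod_eq_zero (by omega), by omega, Or.inr (by omega)⟩

theorem plane_four {F : Type} [Field F] [Fintype F] (hF : Fintype.card F = 4)
    (e : S ≃* Matrix.ProjectiveSpecialLinearGroup (Fin 3) F) : ∃ x : S, orderOf x = 4 := by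
  haveI : CharP F 2 := CfsgLib.CITGraph.charP_two (n := 2) (by norm_num) (by rw [hF]; norm_num)
  have two : (2 : F) = 0 := CharTwo.two_eq_zero
  let U : Matrix.SpecialLinearGroup (Fin 3) F :=
    ⟨!![1, 1, 0; 0, 1, 1; 0, 0, 1], by simp [Matrix.det_fin_three]⟩
  have hU2 : ((U * U : Matrix.SpecialLinearGroup (Fin 3) F) : Matrix (Fin 3) (Fin 3) F) =
      !![1, 0, 1; 0, 1, 0; 0, 0, 1] := by
    rw [Matrix.SpecialLinearGroup.coe_mul]
    show !![1, 1, 0; 0, 1, 1; 0, 0, 1] * !![1, 1, 0; 0, 1, 1; 0, 0, 1] = (_ : Matrix (Fin 3) (Fin 3) F)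
    ext i j
    fin_cases i <;> fin_cases j <;>
      simp [Matrix.mul_apply, Fin.sum_univ_three, CharTwo.add_self_eq_zero]
  have hU4 : U * U * (U * U) = 1 := by
    refine Subtype.ext ?_
    rw [Matrix.SpecialLinearGroup.coe_mul, hU2, Matrix.SpecialLinearGroup.coe_one]
    ext i j
    fin_cases i <;> fin_cases j <;>
      simp [Matrix.mul_apply, Fin.sum_univ_three, CharTwo.add_self_eq_zero]
  refine ⟨e.symm (QuotientGroup.mk U), ?_⟩
  rw [MulEquiv.orderOf_eq, show (4 : ℕ) = 2 ^ (1 + 1) from rfl]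
  haveI : Fact (Nat.Prime 2) := ⟨Nat.prime_two⟩
  refine orderOf_eq_prime_pow ?_ ?_
  · rw [pow_one, sq, ← QuotientGroup.mk_mul, QuotientGroup.eq_one_iff]
    intro hc
    rw [Matrix.SpecialLinearGroup.mem_center_iff] at hc
    obtain ⟨r, -, hr⟩ := hc
    have := congrFun (congrFun hr 0) 2
    rw [hU2] at this
    simp at this
  · rw [← QuotientGroup.mk_pow, show U ^ (2 ^ (1 + 1)) = 1 from ?_, QuotientGroup.mk_one]
    rw [show (2 ^ (1 + 1) : ℕ) = 2 * 2 from rfl, pow_mul, sq, sq, hU4]

/-- A simple CIT group in which even orders are `2` or `2p` is some `PSL₂(2ⁿ)`. -/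
theorem even_of_hyp [IsSimpleGroup S] (hns : ¬ Group.IsSolvable S) (hcit : CfsgLib.CIT.IsCIT S) {p : ℕ}
    (hp : CfsgLib.OneComp.Hyp S p) :
    ∃ (F : Type) (_ : Field F) (_ : Fintype F) (n : ℕ), 2 ≤ n ∧ Fintype.card F = 2 ^ n ∧
      Nonempty (S ≃* Matrix.ProjectiveSpecialLinearGroup (Fin 2) F) := by
  have h4 : ∀ x : S, ¬ 4 ∣ orderOf x := fun x hx => by
    rcases hp.two x ((dvd_mul_right 2 2).trans hx) with e | e <;> rw [e] at hx
    · exact absurd (Nat.le_of_dvd two_pos hx) (by norm_num)
    · have h2 : 2 ∣ p := Nat.dvd_of_mul_dvd_mul_left two_pos (show 2 * 2 ∣ 2 * p from hx)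
      exact hp.odd ((Nat.prime_dvd_prime_iff_eq Nat.prime_two hp.prime).1 h2).symm
  cases cit_shape hns hcit with
  | nine F hF e =>
    obtain ⟨⟨x, hx⟩, -⟩ := exists_orders_odd e (by rw [hF]; decide)
    exact absurd (by rw [hx, hF]) (h4 x)
  | even F n hn hF e => exact ⟨F, inferInstance, inferInstance, n, hn, hF, ⟨e⟩⟩
  | big F hp' h7 h8 e =>
    obtain ⟨x, hx, -, -⟩ := big_four h7 h8 e
    exact absurd hx (h4 x)
  | plane F hF e =>
    obtain ⟨x, hx⟩ := plane_four hF e
    exact absurd hx.symm.dvd (h4 x)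
  | suzuki F m h e =>
    refine absurd ?_ (h4 (e.symm (CfsgLib.Suzuki.uE h 1 0)))
    rw [MulEquiv.orderOf_eq, CfsgLib.Suzuki.orderOf_uE_four h one_ne_zero]

/-- The involutions of `PSL₂(2ⁿ)` are conjugate. -/
theorem invol_conj_even {F : Type} [Field F] [Fintype F] [CharP F 2]
    (e : S ≃* Matrix.ProjectiveSpecialLinearGroup (Fin 2) F) {a b : S} (ha : orderOf a = 2)
    (hb : orderOf b = 2) : IsConj a b := by
  classical
  let f : S ≃* Matrix.SpecialLinearGroup (Fin 2) F := e.trans (CfsgLib.SL2Char2.slEquivPSL (F := F)).symm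
  have key : ∀ g : Matrix.SpecialLinearGroup (Fin 2) F, orderOf g = 2 →
      ¬ CfsgLib.SL2C.IsScal (g : Matrix (Fin 2) (Fin 2) F) ∧ (g : Matrix (Fin 2) (Fin 2) F).trace = 0 := by
    intro g hg
    have h2 : (g : Matrix (Fin 2) (Fin 2) F) * g = 1 := by
      have : g * g = 1 := by rw [← pow_two]; exact orderOf_dvd_iff_pow_eq_one.1 hg.dvd
      exact congrArg Subtype.val this
    have hne : g ≠ 1 := fun e => by rw [e, orderOf_one] at hg; omega
    set A := (g : Matrix (Fin 2) (Fin 2) F) with hA
    have hd : A 0 0 * A 1 1 - A 0 1 * A 1 0 = 1 := by rw [← Matrix.det_fin_two]; exact g.2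
    have e00 := congrFun (congrFun h2 0) 0
    have e01 := congrFun (congrFun h2 0) 1
    have e10 := congrFun (congrFun h2 1) 0
    simp [Matrix.mul_apply, Fin.sum_univ_two] at e00 e01 e10
    refine ⟨fun hs => hne ?_, ?_⟩
    · obtain ⟨hb', hc', hab⟩ := (CfsgLib.SL2C.isScal_iff A).1 hs
      have h1 : A 0 0 = 1 := CharTwo.sq_inj.1 (by rw [one_pow]; linear_combination e00 - A 1 0 * hb')
      refine Subtype.ext (Matrix.ext fun i j => ?_)
      fin_cases i <;> fin_cases j
      · exact h1
      · exact hb'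
      · exact hc'
      · exact hab.symm.trans h1
    · rw [Matrix.trace_fin_two]
      have : (A 0 0 + A 1 1) * A 0 0 = 0 := by
        linear_combination e00 + hd + (CharTwo.two_eq_zero (R := F))
      rcases mul_eq_zero.1 this with h0 | h0
      · exact h0
      have hb0 : A 0 1 ≠ 0 := fun e => by rw [h0, e] at e00; simp at e00
      rw [h0] at e01
      have h11 : A 1 1 = 0 := by simpa [hb0] using e01
      rw [h0, h11, add_zero]
  obtain ⟨ha1, ha2⟩ := key (f a) (by rw [MulEquiv.orderOf_eq, ha])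
  obtain ⟨hb1, hb2⟩ := key (f b) (by rw [MulEquiv.orderOf_eq, hb])
  obtain ⟨P, hP, hP'⟩ := CfsgLib.SL2C.exists_conj ha1 hb1 (ha2.trans hb2.symm)
    (by rw [(f a).2, (f b).2])
  obtain ⟨s, hs⟩ := FiniteField.isSquare_of_char_two (ringChar.eq F 2) P.det
  have hs0 : s ≠ 0 := fun e => hP (by rw [hs, e, mul_zero])
  let Q : Matrix.SpecialLinearGroup (Fin 2) F := ⟨s⁻¹ • P, by
    rw [Matrix.det_smul, Fintype.card_fin, hs]
    field_simp⟩
  have hQ : f b * Q = Q * f a := by
    refine Subtype.ext ?_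
    show ((f b : Matrix.SpecialLinearGroup (Fin 2) F) : Matrix (Fin 2) (Fin 2) F) * (s⁻¹ • P) = (s⁻¹ • P) * _
    rw [Matrix.mul_smul, hP', Matrix.smul_mul]
  refine isConj_iff.2 ⟨f.symm Q, f.injective ?_⟩
  simp only [map_mul, map_inv, MulEquiv.apply_symm_apply]
  rw [← hQ, mul_inv_cancel_right]

end CfsgLib.PrimePairs
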