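import Cfsg.Agent.OneComp.Main
import Cfsg.Agent.CITGraph.Models
import Cfsg.Agent.CNStruct.Main
import Cfsg.Agent.PrimeGraph.PSL2Spectrum
import Cfsg.Agent.Classical.SmallPSL

/-!
# Groups in which no prime divides three element orders

Elementary consequences of the condition, and the division into CIT groups and groups with an element of
order `2p`.
-/

set_option autoImplicit false
set_option linter.style.haveILetI false
set_option linter.unusedSectionVars false

namespace CfsgLib.PrimePairs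

open Subgroup CfsgLib.CITGraph

universe u v

/-- No prime divides three different element orders. -/
def Cond (G : Type u) [Group G] : Prop :=
  ∀ p : ℕ, p.Prime → ∀ a b c : G, orderOf a ≠ orderOf b → orderOf b ≠ orderOf c → orderOf a ≠ orderOf c →
    ¬ (p ∣ orderOf a ∧ p ∣ orderOf b ∧ p ∣ orderOf c)

variable {G : Type u} [Group G]

theorem Cond.eq_or_eq (h : Cond G) {p : ℕ} (hp : p.Prime) {a b : G} (hab : orderOf a ≠ orderOf b)
    (ha : p ∣ orderOf a) (hb : p ∣ orderOf b) (c : G) (hc : p ∣ orderOf c) :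
    orderOf c = orderOf a ∨ orderOf c = orderOf b := by
  by_contra hno
  push Not at hno
  exact h p hp a b c hab (Ne.symm hno.2) (Ne.symm hno.1) ⟨ha, hb, hc⟩

theorem Cond.of_injective {H : Type v} [Group H] (h : Cond G) (f : H →* G) (hf : Function.Injective f) :
    Cond H := fun p hp a b c hab hbc hac => by
  have := h p hp (f a) (f b) (f c)
  simp only [orderOf_injective f hf] at this
  exact this hab hbc hac

theorem Cond.subgroup (h : Cond G) (H : Subgroup G) : Cond ↥H := h.of_injective H.subtype H.subtype_injective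

variable [Finite G]

theorem Cond.quotient (h : Cond G) (N : Subgroup G) [N.Normal] : Cond (G ⧸ N) := by
  intro p hp a b c hab hbc hac hd
  obtain ⟨a', ha⟩ := exists_orderOf_lift N ⟨a, rfl⟩
  obtain ⟨b', hb⟩ := exists_orderOf_lift N ⟨b, rfl⟩
  obtain ⟨c', hc⟩ := exists_orderOf_lift N ⟨c, rfl⟩
  rw [← ha, ← hb, ← hc] at hd
  exact h p hp a' b' c' (by rwa [ha, hb]) (by rwa [hb, hc]) (by rwa [ha, hc]) hd

/-- Element orders have at most two prime factors. -/
theorem Cond.factors (h : Cond G) (x : G) : (orderOf x).primeFactorsList.length ≤ 2 := by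
  by_contra hlt
  push Not at hlt
  have hpr : ∀ r ∈ (orderOf x).primeFactorsList, r.Prime := fun r => Nat.prime_of_mem_primeFactorsList
  have hprod := Nat.prod_primeFactorsList (orderOf_pos x).ne'
  revert hlt hpr hprod
  generalize (orderOf x).primeFactorsList = L
  intro hlt hpr hprod
  obtain ⟨r, s, u, rest, rfl⟩ : ∃ r s u rest, L = r :: s :: u :: rest := by
    match L, hlt with
    | r :: s :: u :: rest, _ => exact ⟨r, s, u, rest, rfl⟩
    | [], h => simp at h
    | [_], h => simp at h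
    | [_, _], h => simp at h
  have hr := hpr r (by simp)
  have hs := (hpr s (by simp)).one_lt
  have hu := (hpr u (by simp)).one_lt
  have hrest : 0 < rest.prod := Nat.pos_of_ne_zero fun e => by
    rw [List.prod_cons, List.prod_cons, List.prod_cons, e] at hprod
    simp at hprod
    exact (orderOf_pos x).ne' hprod.symm
  set n := s * (u * rest.prod)
  have hn : orderOf x = r * n := by simpa [List.prod_cons, n] using hprod.symm
  obtain ⟨a, ha⟩ := exists_orderOf_of_dvd (g := x) (n := r) (hn ▸ dvd_mul_right r n)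
  obtain ⟨b, hb⟩ := exists_orderOf_of_dvd (g := x) (n := r * s)
    (hn ▸ mul_dvd_mul_left r (dvd_mul_right s _))
  have h1 : r < r * s := lt_mul_right hr.pos hs
  have hu2 : 1 < u * rest.prod := lt_of_lt_of_le hu (Nat.le_mul_of_pos_right u hrest)
  have h2 : r * s < r * n := Nat.mul_lt_mul_of_pos_left (lt_mul_right (by omega) hu2) hr.pos
  exact h r hr a b x (by rw [ha, hb]; omega) (by rw [hb, hn]; omega) (by rw [ha, hn]; omega)
    ⟨ha ▸ dvd_rfl, hb ▸ dvd_mul_right r s, hn ▸ dvd_mul_right r n⟩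

/-- In a CIT group even element orders are two or four. -/
theorem Cond.cit_even (h : Cond G) (hcit : CfsgLib.CIT.IsCIT G) (x : G) (hx : 2 ∣ orderOf x) :
    orderOf x = 2 ∨ orderOf x = 4 := by
  rcases hcit.odd_or_two_pow x with ho | ⟨k, hk⟩
  · exact absurd (even_iff_two_dvd.2 hx) (Nat.not_even_iff_odd.2 ho)
  have hlen := h.factors x
  rw [hk, Nat.Prime.primeFactorsList_pow Nat.prime_two, List.length_replicate] at hlen
  interval_cases k
  · rw [hk] at hx; norm_num at hx
  · exact Or.inl hk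
  · exact Or.inr hk

theorem Cond.hyp_of_two_mul (h : Cond G) {r : ℕ} (hr : r.Prime) (hr2 : r ≠ 2) {x : G}
    (hx : orderOf x = 2 * r) : CfsgLib.OneComp.Hyp G r := by
  obtain ⟨a, ha⟩ := exists_orderOf_of_dvd (g := x) (n := 2) (hx ▸ dvd_mul_right 2 r)
  obtain ⟨b, hb⟩ := exists_orderOf_of_dvd (g := x) (n := r) (hx ▸ dvd_mul_left r 2)
  have h2 := hr.two_le
  refine ⟨hr, hr2, fun y hy => ?_, fun y hy => ?_⟩
  · rw [← hx, ← ha]
    exact h.eq_or_eq Nat.prime_two (by omega) (ha ▸ dvd_rfl) (hx ▸ dvd_mul_right 2 r) y hy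
  · rw [← hx]
    exact (h.eq_or_eq hr (show orderOf b ≠ orderOf x by omega) (hb ▸ dvd_rfl) (hx ▸ dvd_mul_left r 2) y hy).imp
      (fun e => e.trans hb) id

theorem Cond.dichotomy (h : Cond G) :
    CfsgLib.CIT.IsCIT G ∨ ∃ p, CfsgLib.OneComp.Hyp G p ∧ ∃ x : G, orderOf x = 2 * p := by
  by_cases hex : ∃ r, r.Prime ∧ r ≠ 2 ∧ ∃ x : G, orderOf x = 2 * r
  · obtain ⟨r, hr, hr2, x, hx⟩ := hex
    exact Or.inr ⟨r, h.hyp_of_two_mul hr hr2 hx, x, hx⟩
  · refine Or.inl (isCIT_of_no_two_mul fun r hr hr2 hx => hex ⟨r, hr, hr2, hx⟩)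

section Orders

variable {F : Type} [Field F] [Fintype F]

/-- Two element orders in a copy of `PSL₂(q)`, `q` odd. -/
theorem exists_orders_odd (e : G ≃* Matrix.ProjectiveSpecialLinearGroup (Fin 2) F)
    (hodd : Odd (Fintype.card F)) :
    (∃ x : G, orderOf x = (Fintype.card F - 1) / 2) ∧ ∃ x : G, orderOf x = (Fintype.card F + 1) / 2 := by
  obtain ⟨p₀, hpc⟩ := CharP.exists F
  obtain ⟨d, hp₀, -⟩ := FiniteField.card F p₀
  haveI := Fact.mk hp₀
  obtain ⟨i, hi⟩ := hodd
  have hgcd : Nat.gcd 2 (Fintype.card F - 1) = 2 := Nat.gcd_eq_left ⟨i, by omega⟩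
  obtain ⟨g₁, hg₁⟩ := CfsgLib.PSL2Spec.exists_orderOf_minus (F := F)
  obtain ⟨g₂, hg₂⟩ := CfsgLib.PSL2Spec.exists_orderOf_plus (F := F) p₀
  rw [hgcd] at hg₁ hg₂
  exact ⟨⟨e.symm g₁, (MulEquiv.orderOf_eq e.symm g₁).trans hg₁⟩,
    ⟨e.symm g₂, (MulEquiv.orderOf_eq e.symm g₂).trans hg₂⟩⟩

/-- Two element orders in a copy of `PSL₂(2ⁿ)`. -/
theorem exists_orders_even (e : G ≃* Matrix.ProjectiveSpecialLinearGroup (Fin 2) F) {n : ℕ} (hn : 1 ≤ n)
    (hF : Fintype.card F = 2 ^ n) :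
    (∃ x : G, orderOf x = 2 ^ n - 1) ∧ ∃ x : G, orderOf x = 2 ^ n + 1 := by
  haveI := charP_two hn hF
  haveI : Fact (Nat.Prime 2) := ⟨Nat.prime_two⟩
  have hgcd : Nat.gcd 2 (Fintype.card F - 1) = 1 := by
    refine (Nat.prime_two.coprime_iff_not_dvd).2 ?_
    have : 2 ∣ 2 ^ n := dvd_pow_self 2 (by omega)
    have : 0 < 2 ^ n := by positivity
    omega
  obtain ⟨g₁, hg₁⟩ := CfsgLib.PSL2Spec.exists_orderOf_minus (F := F)
  obtain ⟨g₂, hg₂⟩ := CfsgLib.PSL2Spec.exists_orderOf_plus (F := F) 2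
  rw [hgcd, Nat.div_one, hF] at hg₁ hg₂
  exact ⟨⟨e.symm g₁, (MulEquiv.orderOf_eq e.symm g₁).trans hg₁⟩,
    ⟨e.symm g₂, (MulEquiv.orderOf_eq e.symm g₂).trans hg₂⟩⟩

end Orders

end CfsgLib.PrimePairs
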