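import Cfsg.Agent.PrimePairs.AlmostSimple
import Cfsg.Agent.PrimePairs.Shapes
import Cfsg.Agent.Classical.PSLTwoFour

/-!
# The CIT groups in which no prime divides three element orders
-/

set_option autoImplicit false
set_option linter.unusedSectionVars false
set_option linter.style.haveILetI false

namespace CfsgLib.PrimePairs

open Subgroup CfsgLib.CNStruct

universe u

variable {G : Type u} [Group G] [Finite G]

theorem pCore_quotient_bot : Cfsg.pCore 2 (G ⧸ Cfsg.pCore 2 G) = ⊥ := by
  haveI : Fact (Nat.Prime 2) := ⟨Nat.prime_two⟩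
  set q := QuotientGroup.mk' (Cfsg.pCore 2 G)
  have hle : (Cfsg.pCore 2 (G ⧸ Cfsg.pCore 2 G)).comap q ≤ Cfsg.pCore 2 G := by
    refine CfsgLib.Solvable.le_pCore 2 inferInstance ?_
    refine (CfsgLib.Solvable.isPGroup_pCore 2).comap_of_ker_isPGroup q ?_
    rw [QuotientGroup.ker_mk']
    exact CfsgLib.Solvable.isPGroup_pCore 2
  rw [eq_bot_iff]
  intro z hz
  obtain ⟨x, rfl⟩ := QuotientGroup.mk'_surjective _ z
  exact mem_bot.2 ((QuotientGroup.eq_one_iff x).2 (hle hz))

theorem Cond.pow_four (h : Cond G) (hcit : CfsgLib.CIT.IsCIT G) {x : G} (hx : 2 ∣ orderOf x) : x ^ 4 = 1 :=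
  orderOf_dvd_iff_pow_eq_one.1 (by rcases h.cit_even hcit x hx with e | e <;> rw [e] <;> norm_num)

set_option maxHeartbeats 800000 in
/-- No normal copy of `PSL₂(9)` of index two. -/
theorem nine_index (hQ : CfsgLib.CIT.IsCIT G) (hC : Cond G) {S : Subgroup G} [S.Normal] (hi : S.index = 2)
    {F : Type} [Field F] [Fintype F] (hF : Fintype.card F = 9)
    (e : S ≃* Matrix.ProjectiveSpecialLinearGroup (Fin 2) F) : False := by
  let z6 : alternatingGroup (Fin 6) := ⟨Equiv.swap 0 1 * Equiv.swap 2 3, Equiv.Perm.mem_alternatingGroup.2 (by decide)⟩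
  let s6 : alternatingGroup (Fin 6) := ⟨Equiv.swap 0 2 * Equiv.swap 1 3, Equiv.Perm.mem_alternatingGroup.2 (by decide)⟩
  let d6 : alternatingGroup (Fin 6) := ⟨Equiv.swap 0 1 * Equiv.swap 4 5, Equiv.Perm.mem_alternatingGroup.2 (by decide)⟩
  let c6 : alternatingGroup (Fin 6) := ⟨Equiv.swap 1 2 * Equiv.swap 2 3, Equiv.Perm.mem_alternatingGroup.2 (by decide)⟩
  haveI : Fact (Nat.Prime 2) := ⟨Nat.prime_two⟩
  haveI : Fact (Nat.Prime 3) := ⟨Nat.prime_three⟩
  obtain ⟨e6⟩ := CfsgLib.Linear.Small.nonempty_psl_two_nine hF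
  let f : alternatingGroup (Fin 6) →* G := S.subtype.comp (e.trans e6).symm.toMonoidHom
  have hf : Function.Injective f := S.subtype_injective.comp (e.trans e6).symm.injective
  have hfS : ∀ x, f x ∈ S := fun x => ((e.trans e6).symm x).2
  set z := f z6 with hzdef
  set s := f s6 with hsdef
  set d := f d6 with hddef
  set c := f c6 with hcdef
  have hz2 : z * z = 1 := by rw [hzdef, ← map_mul, show z6 * z6 = 1 by decide, map_one]
  have hs2 : s * s = 1 := by rw [hsdef, ← map_mul, show s6 * s6 = 1 by decide, map_one]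
  have hd2 : d⁻¹ = d := inv_eq_of_mul_eq_one_right (by rw [hddef, ← map_mul, show d6 * d6 = 1 by decide, map_one])
  have hz1 : z ≠ 1 := fun e' => absurd (hf (e'.trans (map_one f).symm)) (by decide)
  have hsz : s ≠ z := fun e' => absurd (hf e') (by decide)
  have hs1 : s ≠ 1 := fun e' => absurd (hf (e'.trans (map_one f).symm)) (by decide)
  have hzs : Commute z s := (show Commute z6 s6 from show z6 * s6 = s6 * z6 by decide).map f
  have hdz : Commute z d := (show Commute z6 d6 from show z6 * d6 = d6 * z6 by decide).map f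
  have hds : d * s * d⁻¹ = z * s := by
    rw [hddef, hsdef, hzdef, ← map_mul, ← map_inv, ← map_mul, ← map_mul]
    exact congrArg f (by decide)
  have hcz : c * z * c⁻¹ = s := by
    rw [hcdef, hzdef, hsdef, ← map_mul, ← map_inv, ← map_mul]
    exact congrArg f (by decide)
  have hcs : c * s * c⁻¹ = z * s := by
    rw [hcdef, hsdef, hzdef, ← map_mul, ← map_inv, ← map_mul, ← map_mul]
    exact congrArg f (by decide)
  have hc3 : c ^ 3 = 1 := by rw [hcdef, ← map_pow, show c6 ^ 3 = 1 by decide, map_one]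
  have hc1 : c ≠ 1 := fun e' => absurd (hf (e'.trans (map_one f).symm)) (by decide)
  have hzo : orderOf z = 2 := orderOf_eq_prime (by rw [sq]; exact hz2) hz1
  -- the centraliser and the four-group
  set D := S ⊓ centralizer ({z} : Set G) with hD
  set E := D ⊓ centralizer ({s} : Set G) with hE
  have memD : ∀ x, x ∈ D ↔ x ∈ S ∧ Commute z x := fun x => by
    rw [hD, mem_inf, CfsgLib.CIT.mem_centralizer_self_iff]
  have memE : ∀ x, x ∈ E ↔ x ∈ D ∧ Commute s x := fun x => by
    rw [hE, mem_inf, CfsgLib.CIT.mem_centralizer_self_iff]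
  have hdD : d ∈ D := (memD d).2 ⟨hfS d6, hdz⟩
  have hdE : d ∉ E := fun h => by
    have hc' := ((memE d).1 h).2
    rw [← hc'.eq, mul_inv_cancel_right] at hds
    exact hz1 (mul_eq_right.1 hds.symm)
  have hD2 : IsPGroup 2 D := (hQ z hzo).to_le inf_le_right
  obtain ⟨k, hk⟩ := hD2.exists_card_eq
  have hS360 : Nat.card S = 360 := by
    have hc := CfsgLib.Linear.Small.card_psl_two hF
    norm_num [-Nat.card_eq_fintype_card] at hc
    rw [Nat.card_congr e.toEquiv]
    omega
  have hk3 : k ≤ 3 := by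
    by_contra hlt
    have h16 : 2 ^ 4 ∣ 360 := hS360 ▸ ((pow_dvd_pow 2 (by omega)).trans (hk ▸ card_dvd_of_le inf_le_left))
    norm_num at h16
  obtain ⟨j, hj⟩ := (hD2.to_le (inf_le_left : E ≤ D)).exists_card_eq
  let T : Finset (alternatingGroup (Fin 6)) := {1, z6, s6, z6 * s6}
  have hT : T.card = 4 := by decide
  have hTE : f '' (T : Set (alternatingGroup (Fin 6))) ⊆ (E : Set G) := by
    have hzE : z ∈ E := (memE z).2 ⟨(memD z).2 ⟨hfS z6, Commute.refl z⟩, hzs.symm⟩
    have hsE : s ∈ E := (memE s).2 ⟨(memD s).2 ⟨hfS s6, hzs⟩, Commute.refl s⟩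
    rintro _ ⟨x, hx, rfl⟩
    simp only [T, Finset.coe_insert, Finset.coe_singleton, Set.mem_insert_iff, Set.mem_singleton_iff] at hx
    rcases hx with rfl | rfl | rfl | rfl
    · rw [map_one]; exact one_mem E
    · exact hzE
    · exact hsE
    · rw [map_mul]; exact mul_mem hzE hsE
  have hnc : (f '' (T : Set (alternatingGroup (Fin 6)))).ncard = 4 := by
    rw [Set.ncard_image_of_injective _ hf, Set.ncard_coe_finset, hT]
  have hE4 : 4 ≤ Nat.card E := by
    rw [← hnc, ← SetLike.coe_sort_coe E, Nat.card_coe_set_eq]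
    exact Set.ncard_le_ncard hTE
  have hlt : Nat.card E < Nat.card D := by
    refine lt_of_le_of_ne (card_le_of_le inf_le_left) fun he => hdE ?_
    exact (eq_of_le_of_card_ge (inf_le_left : E ≤ D) he.ge).ge hdD
  rw [hj] at hE4
  rw [hj, hk] at hlt
  have hjk : j < k := (Nat.pow_lt_pow_iff_right (by norm_num : 1 < 2)).1 hlt
  have hj2 : 2 ≤ j := (Nat.pow_le_pow_iff_right (by norm_num : 1 < 2)).1 (show 2 ^ 2 ≤ 2 ^ j from hE4)
  obtain ⟨rfl, rfl⟩ : j = 2 ∧ k = 3 := by omega
  have hEmem : ∀ x ∈ E, x = 1 ∨ x = z ∨ x = s ∨ x = z * s := by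
    intro x hx
    have heq := Set.eq_of_subset_of_ncard_le hTE (by
      rw [hnc, ← Nat.card_coe_set_eq, SetLike.coe_sort_coe, hj]; norm_num)
    obtain ⟨y, hy, rfl⟩ := (Set.ext_iff.1 heq x).2 hx
    simp only [T, Finset.coe_insert, Finset.coe_singleton, Set.mem_insert_iff, Set.mem_singleton_iff] at hy
    rcases hy with rfl | rfl | rfl | rfl
    · exact Or.inl (map_one f)
    · exact Or.inr (Or.inl rfl)
    · exact Or.inr (Or.inr (Or.inl rfl))
    · exact Or.inr (Or.inr (Or.inr (map_mul f _ _)))
  have hidx : (E.subgroupOf D).index = 2 := by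
    have := (E.subgroupOf D).card_mul_index
    rw [Nat.card_congr (subgroupOfEquivOfLe (inf_le_left : E ≤ D)).toEquiv, hj, hk] at this
    omega
  -- every element centralising `z` has exponent four
  have hexp : ∀ y : G, Commute z y → y ^ 4 = 1 := fun y hy => by
    rcases hQ.odd_or_two_pow y with ho | ⟨i, hi'⟩
    · rw [hQ.eq_one_of_commute hzo hy ho, one_pow]
    · rcases i with _ | i
      · rw [orderOf_eq_one_iff.1 (hi'.trans (pow_zero 2)), one_pow]
      · exact hC.pow_four hQ (hi' ▸ dvd_pow_self 2 (Nat.succ_ne_zero i))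
  -- an outer element centralising the four-group
  obtain ⟨u0, hu0S, hu0z⟩ : ∃ u0 : G, u0 ∉ S ∧ Commute z u0 := by
    obtain ⟨g, hg⟩ : ∃ g : G, g ∉ S := by
      by_contra hall
      push Not at hall
      rw [show S = ⊤ from eq_top_iff.2 fun x _ => hall x, index_top] at hi
      omega
    have hgz : g * z * g⁻¹ ∈ S := ‹S.Normal›.conj_mem z (hfS z6) g
    obtain ⟨h, hh⟩ := isConj_iff.1 (CfsgLib.Linear.FourGroups.involutions_conj
      (by rw [hF]; decide : Odd (Fintype.card F))
      (a := e ⟨g * z * g⁻¹, hgz⟩) (b := e ⟨z, hfS z6⟩)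
      (by rw [← map_mul, ← map_one e]; refine congrArg e (Subtype.ext ?_)
          show g * z * g⁻¹ * (g * z * g⁻¹) = 1
          rw [show g * z * g⁻¹ * (g * z * g⁻¹) = g * (z * z) * g⁻¹ by group, hz2, mul_one, mul_inv_cancel])
      (fun he => hz1 (conj_eq_one_iff.1 (congrArg Subtype.val (e.injective (he.trans (map_one e).symm)))))
      (by rw [← map_mul, ← map_one e]; exact congrArg e (Subtype.ext hz2))
      (fun he => hz1 (congrArg Subtype.val (e.injective (he.trans (map_one e).symm)))))
    have hh' : (e.symm h : G) * (g * z * g⁻¹) * (e.symm h : G)⁻¹ = z := by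
      have := congrArg (fun w => ((e.symm w : S) : G)) hh
      simpa using this
    refine ⟨(e.symm h : G) * g, fun hm => hg ((mul_mem_cancel_left (e.symm h).2).1 hm), ?_⟩
    show z * _ = _ * z
    conv_lhs => rw [← hh']
    group
  obtain ⟨u, huS, huz, hus⟩ : ∃ u : G, u ∉ S ∧ Commute z u ∧ Commute s u := by
    set s' := u0⁻¹ * s * u0 with hs'
    have hs'S : s' ∈ S := by simpa [hs'] using ‹S.Normal›.conj_mem s (hfS s6) u0⁻¹
    have hzs' : Commute z s' := (hu0z.inv_right.mul_right hzs).mul_right hu0z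
    have hs'D : s' ∈ D := (memD s').2 ⟨hs'S, hzs'⟩
    have hback : ∀ y, u0⁻¹ * y * u0 = s' → y = s := fun y hy => by
      rw [hs'] at hy; exact mul_left_cancel (mul_right_cancel hy)
    by_cases hs'E : s' ∈ E
    · rcases hEmem s' hs'E with h | h | h | h
      · exact absurd (hback 1 (by rw [h]; group)).symm hs1
      · refine absurd (hback z ?_).symm hsz
        rw [h, mul_assoc, hu0z.eq, inv_mul_cancel_left]
      · refine ⟨u0, hu0S, hu0z, ?_⟩
        show s * u0 = u0 * s
        calc s * u0 = u0 * s' := by rw [hs']; group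
          _ = u0 * s := by rw [h]
      · refine ⟨u0 * d, fun hm => hu0S ((mul_mem_cancel_right (hfS d6)).1 hm), hu0z.mul_right hdz, ?_⟩
        show s * (u0 * d) = u0 * d * s
        calc s * (u0 * d) = u0 * (z * s) * d := by rw [← h, hs']; group
          _ = u0 * d * s := by
            rw [← hds]
            calc u0 * (d * s * d⁻¹) * d = u0 * d * s := by group
              _ = u0 * d * s := rfl
    · exfalso
      have hns' : ¬ Commute s s' := fun hc => hs'E ((memE s').2 ⟨hs'D, hc⟩)
      set v := u0 ^ 2 with hv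
      have hvD : v ∈ D := (memD v).2 ⟨sq_mem_of_index_two hi u0, hu0z.pow_right 2⟩
      have hvu : u0⁻¹ * v * u0 = v := by rw [hv, sq]; group
      have hzu : u0⁻¹ * z * u0 = z := by rw [mul_assoc, hu0z.eq, inv_mul_cancel_left]
      have hs'2 : s' * s' = 1 := by
        rw [hs', show u0⁻¹ * s * u0 * (u0⁻¹ * s * u0) = u0⁻¹ * (s * s) * u0 by group, hs2, mul_one, inv_mul_cancel]
      by_cases hvE : v ∈ E
      · have h4 : (u0 * s) ^ 4 = 1 := hexp _ (hu0z.mul_right hzs)
        have hsq : (u0 * s) ^ 2 = v * (s' * s) := by rw [hv, hs', sq, sq]; group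
        rw [show (4 : ℕ) = 2 * 2 from rfl, pow_mul, hsq] at h4
        rcases hEmem v hvE with h | h | h | h
        · rw [h, one_mul, sq] at h4
          refine hns' ?_
          show s * s' = s' * s
          calc s * s' = s' * (s' * s) * (s' * s) * s := by
                rw [show s' * (s' * s) * (s' * s) * s = (s' * s') * s * s' * (s * s) by group, hs'2, hs2,
                  one_mul, mul_one]
            _ = s' * s := by rw [mul_assoc s', h4, mul_one]
        · have hcz' : Commute z (s' * s) := hzs'.mul_right hzs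
          rw [h, hcz'.mul_pow, sq z, hz2, one_mul, sq] at h4
          refine hns' ?_
          show s * s' = s' * s
          calc s * s' = s' * (s' * s) * (s' * s) * s := by
                rw [show s' * (s' * s) * (s' * s) * s = (s' * s') * s * s' * (s * s) by group, hs'2, hs2,
                  one_mul, mul_one]
            _ = s' * s := by rw [mul_assoc s', h4, mul_one]
        · refine hns' ?_
          have e1 : s' = s := by rw [hs']; rw [h] at hvu; exact hvu
          rw [e1]
        · refine hns' ?_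
          have e1 : s' = s := by
            rw [h] at hvu
            have : u0⁻¹ * (z * s) * u0 = z * s' := by
              rw [hs', show u0⁻¹ * (z * s) * u0 = (u0⁻¹ * z * u0) * (u0⁻¹ * s * u0) by group, hzu]
            exact mul_left_cancel (this.symm.trans hvu)
          rw [e1]
      · have hs'inv : s'⁻¹ = s' := inv_eq_of_mul_eq_one_right hs'2
        have hm : s' * v ∈ E := by
          have := (mul_mem_iff_of_index_two hidx (a := ⟨s', hs'D⟩) (b := ⟨v, hvD⟩)).2
            ⟨fun h => absurd h hs'E, fun h => absurd h hvE⟩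
          exact this
        have hv2 : v * v = 1 := by
          rw [hv, ← pow_add]; exact hexp u0 hu0z
        have hvs : v = s' * (s' * v) := by rw [← mul_assoc, hs'2, one_mul]
        have hself : ∀ x ∈ E, x * x = 1 := fun x hx => by
          rcases hEmem x hx with rfl | rfl | rfl | rfl
          · exact one_mul 1
          · exact hz2
          · exact hs2
          · rw [hzs.symm.mul_mul_mul_comm, hz2, hs2, one_mul]
        have hcomm : Commute s' (s' * v) := by
          show s' * (s' * v) = s' * v * s'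
          calc s' * (s' * v) = (s' * (s' * v))⁻¹ := by rw [← hvs, inv_eq_of_mul_eq_one_right hv2]
            _ = (s' * v)⁻¹ * s'⁻¹ := mul_inv_rev _ _
            _ = s' * v * s' := by rw [inv_eq_of_mul_eq_one_right (hself _ hm), hs'inv]
        rcases hEmem _ hm with h | h | h | h
        · rw [h, mul_one] at hvs
          rw [hvs] at hvu
          exact hns' (by rw [hback s' hvu])
        · rw [h] at hvs
          rw [hvs] at hvu
          have : u0⁻¹ * (s' * z) * u0 = (u0⁻¹ * s' * u0) * z := by
            rw [show u0⁻¹ * (s' * z) * u0 = (u0⁻¹ * s' * u0) * (u0⁻¹ * z * u0) by group, hzu]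
          exact hns' (by rw [hback s' (mul_right_cancel (this.symm.trans hvu))])
        · rw [h] at hcomm
          exact hns' hcomm.symm
        · rw [h] at hcomm
          have : Commute s' s := by
            have := (hzs'.symm.inv_right).mul_right hcomm
            rwa [inv_mul_cancel_left] at this
          exact hns' this.symm
  -- a fixed point of an element of order three
  have hcE : ∀ x ∈ E, c * x * c⁻¹ ∈ E := by
    have hzE : z ∈ E := (memE z).2 ⟨(memD z).2 ⟨hfS z6, Commute.refl z⟩, hzs.symm⟩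
    have hsE : s ∈ E := (memE s).2 ⟨(memD s).2 ⟨hfS s6, hzs⟩, Commute.refl s⟩
    intro x hx
    rcases hEmem x hx with rfl | rfl | rfl | rfl
    · rw [mul_one, mul_inv_cancel]; exact one_mem E
    · rw [hcz]; exact hsE
    · rw [hcs]; exact mul_mem hzE hsE
    · rw [show c * (z * s) * c⁻¹ = (c * z * c⁻¹) * (c * s * c⁻¹) by group, hcz, hcs]
      exact mul_mem hsE (mul_mem hzE hsE)
  have hcomE : u⁻¹ * (c * u * c⁻¹) ∈ E := by
    have hS' : u⁻¹ * (c * u * c⁻¹) ∈ S := by
      rw [show u⁻¹ * (c * u * c⁻¹) = (u⁻¹ * c * (u⁻¹)⁻¹) * c⁻¹ by group]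
      exact mul_mem (‹S.Normal›.conj_mem c (hfS c6) _) (inv_mem (hfS c6))
    have hcc : ∀ y, c * y * c⁻¹ ∈ E → Commute u (c * y * c⁻¹) := fun y hy => by
      rcases hEmem _ hy with h | h | h | h <;> rw [h]
      · exact Commute.one_right u
      · exact huz.symm
      · exact hus.symm
      · exact huz.symm.mul_right hus.symm
    have key : ∀ x, c * x * c⁻¹ ∈ E → ∀ y, c * y * c⁻¹ = x → Commute u x → Commute u y →
        Commute x (u⁻¹ * (c * u * c⁻¹)) := by
      intro x _ y hy hux huy
      have h1 : Commute x (c * u * c⁻¹) := by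
        rw [← hy]
        exact huy.symm.map (MulAut.conj c).toMonoidHom
      exact hux.symm.inv_right.mul_right h1
    refine (memE _).2 ⟨(memD _).2 ⟨hS', ?_⟩, ?_⟩
    · refine key z ?_ (z * s) ?_ huz.symm (huz.symm.mul_right hus.symm)
      · exact hcE z ((memE z).2 ⟨(memD z).2 ⟨hfS z6, Commute.refl z⟩, hzs.symm⟩)
      · rw [show c * (z * s) * c⁻¹ = (c * z * c⁻¹) * (c * s * c⁻¹) by group, hcz, hcs, hzs.eq, ← mul_assoc,
          hs2, one_mul]
    · refine key s ?_ z hcz hus.symm huz.symm
      exact hcE s ((memE s).2 ⟨(memD s).2 ⟨hfS s6, hzs⟩, Commute.refl s⟩)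
  obtain ⟨u', hu', hfix⟩ := CfsgLib.CIT.exists_fixed_coset (MulAut.conj c) Nat.prime_three (by norm_num)
    (n := 1) (by rw [pow_one, CfsgLib.CIT.conjAut_pow, hc3, map_one]) E (hD2.to_le inf_le_left) hcE (u := u)
    hcomE
  have hu'S : u' ∉ S := fun h => by
    have hm : u⁻¹ * u' ∈ S := ((memD _).1 ((memE _).1 hu').1).1
    exact huS (inv_mem_iff.1 ((mul_mem_cancel_right h).1 hm))
  have hcu : Commute u' c := by
    have e1 : c * u' * c⁻¹ = u' := hfix
    show u' * c = c * u'
    nth_rw 1 [← e1]
    group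
  rcases hQ.odd_or_two_pow u' with ho | ⟨i, hi'⟩
  · refine hu'S ?_
    obtain ⟨t, ht⟩ := exists_pow_eq_self_of_coprime (x := u') (n := 2) (Nat.coprime_two_left.2 ho)
    rw [← ht]
    exact pow_mem (sq_mem_of_index_two hi u') t
  · exact hc1 (hQ.eq_one_of_commute' (fun e' => hu'S (by rw [e']; exact one_mem S)) (hi' ▸ pow_orderOf_eq_one u') hcu
      (by rw [orderOf_eq_prime hc3 hc1]; decide))

end CfsgLib.PrimePairs
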