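import Cfsg.Agent.PrimePairs.CIT
import Cfsg.Agent.OneComp.Norm

/-!
# The classification for CIT groups
-/

set_option autoImplicit false
set_option linter.unusedSectionVars false
set_option linter.style.haveILetI false

namespace CfsgLib.PrimePairs

open Subgroup Matrix CfsgLib.CNStruct CfsgLib.Suzuki

universe u

/-- The list of possible groups. -/
def Concl (G : Type u) [Group G] : Prop :=
  (∃ (F : Type) (_ : Field F) (_ : Fintype F), CharP F 2 ∧ 4 ≤ Fintype.card F ∧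
      (Fintype.card F + 1).primeFactorsList.length ≤ 2 ∧ (Fintype.card F - 1).primeFactorsList.length ≤ 2 ∧
      Nonempty (G ⧸ Cfsg.pCore 2 G ≃* Matrix.ProjectiveSpecialLinearGroup (Fin 2) F)) ∨
  (∃ (F : Type) (_ : Field F) (_ : Fintype F), 5 < Fintype.card F ∧ (Fintype.card F % 8 = 3 ∨ Fintype.card F % 8 = 5) ∧
      ((Fintype.card F + 1) / 2).primeFactorsList.length ≤ 2 ∧ ((Fintype.card F - 1) / 2).primeFactorsList.length ≤ 2 ∧
      Nonempty (G ≃* Matrix.ProjectiveSpecialLinearGroup (Fin 2) F)) ∨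
  (∃ (F : Type) (_ : Field F) (_ : Fintype F), (Fintype.card F = 7 ∨ Fintype.card F = 9) ∧
      Nonempty (G ≃* Matrix.ProjectiveSpecialLinearGroup (Fin 2) F)) ∨
  (∃ (F : Type) (_ : Field F) (_ : Fintype F), Fintype.card F = 4 ∧
      Nonempty (G ≃* Matrix.ProjectiveSpecialLinearGroup (Fin 3) F)) ∨
  (∃ n : ℕ, 1 ≤ n ∧ IsSimpleGroup G ∧
      Nat.card G = (2 ^ (2 * n + 1)) ^ 2 * ((2 ^ (2 * n + 1)) ^ 2 + 1) * (2 ^ (2 * n + 1) - 1) ∧
      (2 ^ (2 * n + 1) - 1).primeFactorsList.length ≤ 2 ∧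
      (2 ^ (2 * n + 1) - 2 ^ (n + 1) + 1).primeFactorsList.length ≤ 2 ∧
      (2 ^ (2 * n + 1) + 2 ^ (n + 1) + 1).primeFactorsList.length ≤ 2)

variable {G : Type u} [Group G] [Finite G]

/-- The `PSL₂(2ⁿ)` case. -/
theorem concl_even (hC : Cond G) {F : Type} [Field F] [Fintype F] {n : ℕ} (hn : 2 ≤ n)
    (hF : Fintype.card F = 2 ^ n)
    (e : G ⧸ Cfsg.pCore 2 G ≃* Matrix.ProjectiveSpecialLinearGroup (Fin 2) F) : Concl G := by
  obtain ⟨⟨x, hx⟩, ⟨y, hy⟩⟩ := exists_orders_even e (by omega) hF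
  refine Or.inl ⟨F, inferInstance, inferInstance, CfsgLib.CITGraph.charP_two (n := n) (by omega) hF, ?_, ?_, ?_, ⟨e⟩⟩
  · rw [hF]; exact le_trans (by norm_num) (Nat.pow_le_pow_right two_pos hn)
  · rw [hF, ← hy]; exact (hC.quotient _).factors y
  · rw [hF, ← hx]; exact (hC.quotient _).factors x

set_option maxHeartbeats 800000 in
/-- No proper extension of a 2-group by a Suzuki group. -/
theorem no_suzuki (hG : CfsgLib.CIT.IsCIT G) (hC : Cond G) {R : Subgroup G} [R.Normal] (hR : IsPGroup 2 R)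
    (hR1 : R ≠ ⊥) {F : Type} [Field F] [Fintype F] [DecidableEq F] {m : ℕ} (h : IsSzField F m)
    (e : G ⧸ R ≃* SzG F m) : False := by
  classical
  haveI := finite_G h
  haveI := h.charP
  haveI : Fact (Nat.Prime 2) := ⟨Nat.prime_two⟩
  haveI : Fact (Nat.Prime 5) := ⟨by norm_num⟩
  obtain ⟨h3, hne, -⟩ := x5_pow_five h
  have h5 : Sz.x5 h ^ 5 = 1 := by
    have hz : uE h (0 : F) 1 * uE h 0 1 = 1 := by
      rw [uE_mul, ← uE_zero h]
      congr 1
      · simp
      · linear_combination h.two_eq_zero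
    calc Sz.x5 h ^ 5 = (Sz.x5 h * Sz.x5 h) * (Sz.x5 h * (Sz.x5 h * Sz.x5 h)) := by
          simp only [pow_succ, pow_zero, one_mul, mul_assoc]
      _ = uE h 0 1 * (wE h * uE h 0 1 * ((wE h * wE h) * uE h 0 1) * (wE h * uE h 0 1)) := by
          rw [h3, Sz.x5]; simp only [mul_assoc]
      _ = 1 := by
          rw [wE_mul_wE, one_mul, mul_assoc (wE h), hz, mul_one, ← mul_assoc (wE h), wE_mul_wE, one_mul, hz]
  have hconj : uE h 1 0 * Sz.x5 h * (uE h 1 0)⁻¹ = Sz.x5 h ^ 2 := by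
    rw [mul_inv_eq_iff_eq_mul, sq]
    apply Subtype.ext
    apply Subtype.ext
    ext i j
    fin_cases i <;> fin_cases j <;>
      simp [Sz.x5, Subgroup.coe_mul, Matrix.mul_apply, Fin.sum_univ_four, Umat, Wmat, zf,
        CharTwo.add_self_eq_zero]
  set π := QuotientGroup.mk' R
  set x := e.symm (Sz.x5 h) with hx
  set yb := e.symm (uE h 1 0) with hyb
  have hx5 : x ^ 5 = 1 := by rw [hx, ← map_pow, h5, map_one]
  have hx1 : x ≠ 1 := fun he => hne (e.symm.injective (he.trans (map_one _).symm))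
  have hyx : yb * x * yb⁻¹ = x ^ 2 := by rw [hx, hyb, ← map_inv, ← map_mul, ← map_mul, hconj, map_pow]
  -- a lift of order five
  obtain ⟨w0, hw0⟩ := QuotientGroup.mk'_surjective R x
  obtain ⟨a, ha⟩ := exists_odd_pow w0
  set w := w0 ^ 2 ^ a
  have hπw : π w = x ^ 2 ^ a := by rw [map_pow, hw0]
  have hxo : orderOf x = 5 := orderOf_eq_prime hx5 hx1
  have hπw1 : π w ≠ 1 := by
    rw [hπw]
    exact pow_two_pow_ne_one (by rw [hxo]; decide) hx1 a
  have hw5 : w ^ 5 = 1 := by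
    refine CfsgLib.CIT.eq_one_of_odd_of_mem hR (ha.of_dvd_nat (orderOf_pow_dvd 5)) ?_
    refine (QuotientGroup.eq_one_iff _).1 ?_
    show π (w ^ 5) = 1
    rw [map_pow, hπw, ← pow_mul, mul_comm, pow_mul, hx5, one_pow]
  have hw1 : w ≠ 1 := fun he => hπw1 (by rw [he, map_one])
  have hwo : orderOf w = 5 := orderOf_eq_prime hw5 hw1
  have fixR : ∀ r ∈ R, Commute r w → r = 1 := fun r hr hc => by_contra fun hr1 => by
    obtain ⟨k, hk⟩ := hR ⟨r, hr⟩
    exact hw1 (hG.eq_one_of_commute' hr1 (congrArg Subtype.val hk) hc (by rw [hwo]; decide))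
  -- an element acting by squaring
  obtain ⟨y, hyw⟩ : ∃ y : G, y * w * y⁻¹ = w ^ 2 := by
    obtain ⟨y0, hy0⟩ := QuotientGroup.mk'_surjective R yb
    let f : R → R := fun r => ⟨(w ^ 2)⁻¹ * ((r : G) * w ^ 2 * (r : G)⁻¹), by
      rw [show (w ^ 2)⁻¹ * ((r : G) * w ^ 2 * (r : G)⁻¹) = ((w ^ 2)⁻¹ * (r : G) * w ^ 2) * (r : G)⁻¹ by group]
      refine mul_mem ?_ (inv_mem r.2)
      simpa using ‹R.Normal›.conj_mem (r : G) r.2 (w ^ 2)⁻¹⟩
    have hf : Function.Injective f := fun r r' hr => by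
      have h' : (r : G) * w ^ 2 * (r : G)⁻¹ = r' * w ^ 2 * (r' : G)⁻¹ := mul_left_cancel (congrArg Subtype.val hr)
      have hc : Commute ((r' : G)⁻¹ * r) (w ^ 2) := by
        show (r' : G)⁻¹ * r * w ^ 2 = w ^ 2 * ((r' : G)⁻¹ * r)
        calc (r' : G)⁻¹ * r * w ^ 2 = (r' : G)⁻¹ * ((r : G) * w ^ 2 * (r : G)⁻¹) * r := by group
          _ = _ := by rw [h']; group
      obtain ⟨t, ht⟩ := exists_pow_eq_self_of_coprime (x := w) (n := 2) (by rw [hwo]; decide)
      have := fixR _ (mul_mem (inv_mem r'.2) r.2) (ht ▸ hc.pow_right t)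
      exact Subtype.ext (inv_mul_eq_one.1 this).symm
    have hm : (w ^ 2)⁻¹ * (y0 * w * y0⁻¹) ∈ R := by
      refine (QuotientGroup.eq_one_iff _).1 ?_
      show π ((w ^ 2)⁻¹ * (y0 * w * y0⁻¹)) = 1
      rw [map_mul, map_mul, map_mul, map_inv, map_inv, map_pow, hy0, hπw, ← conj_pow, hyx, ← pow_mul, mul_comm,
        pow_mul, inv_mul_cancel]
    obtain ⟨r, hr⟩ := (Finite.injective_iff_surjective.1 hf) ⟨_, hm⟩
    have hr' : (r : G) * w ^ 2 * (r : G)⁻¹ = y0 * w * y0⁻¹ := mul_left_cancel (congrArg Subtype.val hr)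
    refine ⟨(r : G)⁻¹ * y0, ?_⟩
    rw [show (r : G)⁻¹ * y0 * w * ((r : G)⁻¹ * y0)⁻¹ = (r : G)⁻¹ * (y0 * w * y0⁻¹) * r by group, ← hr']
    group
  have hit : ∀ i j : ℕ, y ^ i * w ^ j * (y ^ i)⁻¹ = w ^ (2 ^ i * j) := by
    intro i
    induction i with
    | zero => intro j; simp
    | succ i ih =>
      intro j
      rw [pow_succ, show y ^ i * y * w ^ j * (y ^ i * y)⁻¹ = y ^ i * (y * w ^ j * y⁻¹) * (y ^ i)⁻¹ by group,
        ← conj_pow, hyw, ← pow_mul, ih, ← mul_assoc, ← pow_succ]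
  have hmod : ∀ n, w ^ n = w ^ (n % 5) := fun n => by rw [← hwo]; exact (pow_mod_orderOf w n).symm
  have hy4 : y ^ 4 = 1 := by
    refine hC.pow_four hG (by_contra fun hodd => hw1 ?_)
    obtain ⟨t, ht⟩ := exists_pow_eq_self_of_coprime (x := y) (n := 4)
      (show (2 ^ 2).Coprime (orderOf y) from
        ((Nat.prime_two.coprime_iff_not_dvd).2 hodd).pow_left 2)
    have hc : Commute (y ^ 4) w := by
      have e1 := hit 4 1
      rw [pow_one, show 2 ^ 4 * 1 = 16 by norm_num, hmod 16, show 16 % 5 = 1 by norm_num, pow_one] at e1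
      exact mul_inv_eq_iff_eq_mul.1 e1
    have hc' := hc.pow_left t
    rw [ht] at hc'
    rw [hc'.eq, mul_inv_cancel_right, sq] at hyw
    exact mul_left_cancel (a := w) (by rw [mul_one]; exact hyw.symm)
  -- the centre of the kernel
  set Z : Subgroup G := (center ↥R).map R.subtype with hZ
  haveI : Z.Normal := ConjAct.normal_of_characteristic_of_normal
  have hZR : Z ≤ R := map_subtype_le _
  haveI : IsMulCommutative ↥Z := ⟨⟨by
    rintro ⟨_, p, hp, rfl⟩ ⟨_, q, hq, rfl⟩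
    exact Subtype.ext (congrArg (Subtype.val : ↥R → G) (mem_center_iff.1 hq p))⟩⟩
  haveI : Nontrivial ↥R := (Subgroup.nontrivial_iff_ne_bot R).2 hR1
  haveI := hR.center_nontrivial
  obtain ⟨z, hz⟩ := exists_ne (1 : center ↥R)
  have hcop : (Nat.card ↥Z).Coprime (Nat.card ↥(zpowers w)) := by
    obtain ⟨k, hk⟩ := (hR.to_le hZR).exists_card_eq
    rw [hk, Nat.card_zpowers, hwo]
    exact Nat.Coprime.pow_left k (by norm_num)
  have hyK : y ∈ normalizer ((zpowers w : Subgroup G) : Set G) := by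
    rw [mem_normalizer_iff_map_conj_eq, MonoidHom.map_zpowers]
    show zpowers (y * w * y⁻¹) = _
    rw [hyw]
    refine eq_of_le_of_card_ge (zpowers_le.2 (pow_mem (mem_zpowers w) 2)) ?_
    rw [Nat.card_zpowers, Nat.card_zpowers, Nat.Coprime.orderOf_pow (show (orderOf w).Coprime 2 by rw [hwo]; norm_num)]
  have hcen := CfsgLib.OneComp.centralizes_abelian_of hcop (c := y) (l := 4) (by norm_num) hy4 hyK
    (fun i h1 h4 k hk hc => by
      obtain ⟨j, rfl⟩ := (isOfFinOrder_of_finite w).mem_powers_iff_mem_zpowers.2 hk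
      show w ^ j = 1
      have e1 := hit i j
      rw [show y ^ i * w ^ j * (y ^ i)⁻¹ = w ^ j from mul_inv_eq_iff_eq_mul.2 hc, pow_eq_pow_iff_modEq,
        hwo] at e1
      rw [← orderOf_dvd_iff_pow_eq_one, hwo]
      unfold Nat.ModEq at e1
      interval_cases i <;> omega)
    (fun p hp k hk => by
      refine hC.pow_four hG (by_contra fun hodd => hw1 ?_)
      set q := p * (k * y * k⁻¹)
      have hq : π q = π k * π y * (π k)⁻¹ := by
        rw [map_mul, show π p = 1 from (QuotientGroup.eq_one_iff _).2 (hZR hp), one_mul, map_mul, map_mul, map_inv]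
      have h1 : π q = 1 := by
        obtain ⟨t, ht⟩ := exists_pow_eq_self_of_coprime (x := q) (n := 4)
          (show (2 ^ 2).Coprime (orderOf q) from ((Nat.prime_two.coprime_iff_not_dvd).2 hodd).pow_left 2)
        rw [← ht, map_pow, map_pow, hq, conj_pow, ← map_pow, hy4, map_one, mul_one, mul_inv_cancel, one_pow]
      rw [hq, conj_eq_one_iff] at h1
      have hyR : y ∈ R := (QuotientGroup.eq_one_iff y).1 h1
      refine CfsgLib.CIT.eq_one_of_odd_of_mem hR (by rw [hwo]; decide) ?_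
      have : y * w * y⁻¹ * w⁻¹ ∈ R := by
        rw [show y * w * y⁻¹ * w⁻¹ = y * (w * y⁻¹ * w⁻¹) by group]
        exact mul_mem hyR (‹R.Normal›.conj_mem _ (inv_mem hyR) w)
      rwa [hyw, sq, mul_inv_cancel_right] at this)
  refine hz (Subtype.ext (Subtype.ext ?_))
  refine fixR _ (z : ↥R).2 ?_
  exact mem_centralizer_iff.1 (hcen (mem_zpowers w)) _ (mem_map_of_mem R.subtype z.2)

set_option maxHeartbeats 800000 in
theorem cit_main (hns : ¬ Group.IsSolvable G) (hcit : CfsgLib.CIT.IsCIT G) (hC : Cond G) : Concl G := by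
  classical
  haveI : Fact (Nat.Prime 2) := ⟨Nat.prime_two⟩
  set R := Cfsg.pCore 2 G with hRdef
  haveI : R.Normal := CfsgLib.Solvable.pCore_normal 2
  have hR2 : IsPGroup 2 R := CfsgLib.Solvable.isPGroup_pCore 2
  have hQns : ¬ Group.IsSolvable (G ⧸ R) := fun hs => hns (by
    haveI := hs
    haveI := hR2.isNilpotent
    haveI : Group.IsSolvable ↥R := inferInstance
    exact (Group.isSolvable_iff_subgroup_quotient R).2 ⟨inferInstance, inferInstance⟩)
  have hQcit : CfsgLib.CIT.IsCIT (G ⧸ R) := hcit.quotient R hR2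
  have hQC : Cond (G ⧸ R) := hC.quotient R
  obtain ⟨S, hS, hSs, hSns⟩ := hQcit.exists_simple_normal hQns pCore_quotient_bot
  haveI := hS
  haveI := hSs
  have hshape := cit_shape hSns (hQcit.subgroup S)
  have hf : R ≠ ⊥ → ∀ g : G, Odd (orderOf g) → g ∉ R → ∀ n ∈ R, g * n * g⁻¹ = n → n = 1 :=
    fun _ g hg hgR n hn hgn => by_contra fun hn1 => by
      obtain ⟨k, hk⟩ := hR2 ⟨n, hn⟩
      refine hgR ?_
      rw [hcit.eq_one_of_commute' hn1 (congrArg Subtype.val hk) ?_ hg]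
      · exact one_mem R
      · exact (mul_inv_eq_iff_eq_mul.1 hgn).symm
  have noPair : ∀ {P : Type} [Group P] (_ : S ≃* P),
      (∃ a b : P, Commute a b ∧ a ^ 3 = 1 ∧ b ^ 3 = 1 ∧ a ≠ 1 ∧ b ∉ zpowers a) → R = ⊥ := by
    intro P _ eP ⟨a, b, hab, ha3, hb3, ha1, hb⟩
    by_contra hR1
    let f : P →* G ⧸ R := S.subtype.comp eP.symm.toMonoidHom
    have hfi : Function.Injective f := S.subtype_injective.comp eP.symm.injective
    refine no_pair hR2 hR1 (hf hR1) (a := f a) (b := f b) (hab.map f) (by rw [← map_pow, ha3, map_one])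
      (by rw [← map_pow, hb3, map_one]) (fun e => ha1 (hfi (e.trans (map_one f).symm))) fun h => hb ?_
    obtain ⟨k, hk⟩ := mem_zpowers_iff.1 h
    exact ⟨k, hfi (by rw [map_zpow]; exact hk)⟩
  have hS' : S = ⊤ := by
    rcases shape_good hshape with ⟨hg, F, hf1, hf2, hF, ⟨e⟩⟩ | hg
    · rcases (Nat.dvd_prime Nat.prime_two).1 (by simpa using index_dvd_of_good hQcit hg) with h1 | h1
      · exact index_eq_one.1 h1
      · exact (nine_index hQcit hQC h1 hF e).elim
    · exact index_eq_one.1 (Nat.dvd_one.1 (by simpa using index_dvd_of_good hQcit hg))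
  subst hS'
  let eQ : G ⧸ R ≃* (⊤ : Subgroup (G ⧸ R)) := topEquiv.symm
  haveI : IsSimpleGroup (G ⧸ R) := eQ.isSimpleGroup_congr.2 inferInstance
  let e0 : R = ⊥ → G ≃* G ⧸ R := fun hR =>
    QuotientGroup.quotientBot.symm.trans (QuotientGroup.quotientMulEquivOfEq hR.symm)
  cases hshape with
  | nine F hF e =>
    exact Or.inr (Or.inr (Or.inl ⟨F, inferInstance, inferInstance, Or.inr hF,
      ⟨((e0 (noPair e (psl_nine_pair hF))).trans eQ).trans e⟩⟩))
  | plane F hF e =>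
    exact Or.inr (Or.inr (Or.inr (Or.inl ⟨F, inferInstance, inferInstance, hF,
      ⟨((e0 (noPair e (psl_three_four_pair hF))).trans eQ).trans e⟩⟩)))
  | even F n hn hF e => exact concl_even hC hn hF (eQ.trans e)
  | big F hp h7 h8 e =>
    haveI : IsSimpleGroup (Matrix.ProjectiveSpecialLinearGroup (Fin 2) F) :=
      (eQ.trans e).isSimpleGroup_congr.1 inferInstance
    have hR : R = ⊥ := by_contra fun hR1 => no_module_psl hR2 hR1 (hf hR1) hp h8 (eQ.trans e)
    obtain ⟨x, hx4, hx7, hxF⟩ := big_four h7 h8 (eQ.trans e)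
    have hx : orderOf x = 2 ∨ orderOf x = 4 :=
      hQC.cit_even hQcit x ((dvd_mul_right 2 2).trans hx4)
    have hF : Fintype.card F = 7 := by
      rcases hx with hx | hx <;> rw [hx] at hxF hx7
      · omega
      · rcases hxF with h9 | h9
        · exfalso
          rw [← h9] at hp
          norm_num at hp
        · omega
    exact Or.inr (Or.inr (Or.inl ⟨F, inferInstance, inferInstance, Or.inl hF,
      ⟨((e0 hR).trans eQ).trans e⟩⟩))
  | suzuki F m h e =>
    have hR : R = ⊥ := by_contra fun hR1 => no_suzuki hcit hC hR2 hR1 h (eQ.trans e)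
    let eG : G ≃* CfsgLib.Suzuki.SzG F m := ((e0 hR).trans eQ).trans e
    obtain ⟨⟨a, ha⟩, ⟨b, hb⟩, ⟨c, hc⟩, hcard⟩ :=
      CfsgLib.CIT.ListOrders.suzuki_data h.pos (Nat.card_eq_fintype_card.symm.trans h.card) (eG.trans (lieEquiv h))
    refine Or.inr (Or.inr (Or.inr (Or.inr ⟨m, h.pos, (e0 hR).isSimpleGroup_congr.2 inferInstance, hcard,
      ha ▸ hC.factors a, hc ▸ hC.factors c, hb ▸ hC.factors b⟩)))

end CfsgLib.PrimePairs
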