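import Cfsg.Agent.PrimePairs.Shapes
import Cfsg.Agent.CITGraph.Main
import Cfsg.Agent.Classical.PSLTwoTorus
import Cfsg.Agent.Classical.PSLTwoFour

/-!
# Non-solvable groups with a single composite element order `2p` in the sense of `OneComp.Hyp`

Such a group with an element of order `2p` is some `PSL₂(q)` with `q = 4p ± 1`.
-/

set_option autoImplicit false
set_option linter.unusedSectionVars false
set_option linter.style.haveILetI false

namespace CfsgLib.PrimePairs

open Subgroup CfsgLib.CITGraph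
open CfsgLib.OneComp (Hyp)

universe u

variable {G : Type u} [Group G] [Finite G] {p : ℕ}

theorem hyp_quotient (h : Hyp G p) (N : Subgroup G) [N.Normal] : Hyp (G ⧸ N) p := by
  refine ⟨h.prime, h.odd, fun y hy => ?_, fun y hy => ?_⟩ <;>
    obtain ⟨x, hx⟩ := exists_orderOf_lift N ⟨y, rfl⟩ <;> rw [← hx] at hy ⊢
  · exact h.two x hy
  · exact h.pee x hy

theorem mem_of_pow_eq_one {U : Type*} [Group U] [Finite U] [IsCyclic U] (H : Subgroup U) {x : U}
    (hx : x ^ Nat.card H = 1) : x ∈ H := by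
  classical
  haveI := Fintype.ofFinite U
  by_contra hxH
  have hle := IsCyclic.card_pow_eq_one_le (α := U) (n := Nat.card H) Nat.card_pos
  have hsub : insert x ((H : Set U).toFinset) ⊆ Finset.univ.filter fun z => z ^ Nat.card H = 1 := by
    intro z hz
    simp only [Finset.mem_insert, Set.mem_toFinset, SetLike.mem_coe] at hz
    simp only [Finset.mem_filter, Finset.mem_univ, true_and]
    rcases hz with rfl | hz
    · exact hx
    · exact orderOf_dvd_iff_pow_eq_one.1 (Subgroup.orderOf_dvd_natCard H hz)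
  have h4 := (Finset.card_le_card hsub).trans hle
  rw [Finset.card_insert_of_notMem (by simpa using hxH), Set.toFinset_card, ← Nat.card_eq_fintype_card,
    SetLike.coe_sort_coe] at h4
  omega

/-- The elements commuting with one of prime order outside `2`, `p` have order prime to `2p`. -/
theorem not_dvd_of_commute (h : Hyp G p) {a z : G} {r : ℕ} (hr : r.Prime) (hr2 : r ≠ 2) (hrp : r ≠ p)
    (ha : orderOf a = r) (hz : Commute z a) : ¬ 2 ∣ orderOf z ∧ ¬ p ∣ orderOf z := by
  constructor <;> intro hd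
  · exact (h.prime_commute (Or.inl rfl) hr (orderOf_pow_orderOf_div (orderOf_pos z).ne' hd) ha
      (hz.pow_left _)).elim hr2 hrp
  · exact (h.prime_commute (Or.inr rfl) hr (orderOf_pow_orderOf_div (orderOf_pos z).ne' hd) ha
      (hz.pow_left _)).elim hr2 hrp

section Radical

theorem radical_aux : ∀ (n : ℕ) (G : Type u) [Group G] [Finite G], Nat.card G = n → Hyp G p →
    ¬ Group.IsSolvable G → ∀ (N : Subgroup G), N.Normal → Group.IsSolvable N → N = ⊥ := by
  intro n
  induction n using Nat.strong_induction_on with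
  | _ n ih =>
  intro G _ _ hn h hns N hN hNs
  classical
  haveI : Fact (Nat.Prime 2) := ⟨Nat.prime_two⟩
  haveI := Fact.mk h.prime
  by_contra hN1
  haveI := hN
  obtain ⟨M, hM, hM1, -, hMc, -, r, hr, hexp, hMr⟩ :=
    CfsgLib.Solvable.exists_normal_elementary_le hN1 hNs
  haveI := hM
  haveI := Fact.mk hr
  obtain ⟨S⟩ : Nonempty (Sylow 2 G) := inferInstance
  have h4 := h.card_sylow S hns
  obtain ⟨m, hm, hm1⟩ := (Subgroup.bot_or_exists_ne_one M).resolve_left hM1
  have hmo : orderOf m = r := orderOf_eq_prime (hexp m hm) hm1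
  have hnorm : ∀ H : Subgroup G, H ≤ normalizer (M : Set G) := fun H => le_normalizer_of_normal
  set C := centralizer (M : Set G)
  haveI : C.Normal := inferInstance
  suffices hSC : (r = 2 ∨ r = p) ∧ ∃ t ∈ C, orderOf t = 2 ∧ (r = 2 → (S : Subgroup G) ≤ C) by
    obtain ⟨hr', t, htC, ht, h2⟩ := hSC
    have hCs : Group.IsSolvable C := h.solvable_of_le_centralizer hr' hmo
      (centralizer_le (Set.singleton_subset_iff.2 hm))
    have hMC : M ≤ C := le_centralizer_iff_isMulCommutative.2 hMc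
    have hlt : Nat.card (G ⧸ M) < n := by
      rw [← hn, M.card_eq_card_quotient_mul_card_subgroup]
      haveI : Nontrivial M := (nontrivial_iff_ne_bot M).2 hM1
      exact lt_mul_right Nat.card_pos Finite.one_lt_card
    haveI := hMr.isNilpotent
    haveI : Group.IsSolvable ↥M := inferInstance
    have hQns : ¬ Group.IsSolvable (G ⧸ M) := fun hs => hns
      ((Group.isSolvable_iff_subgroup_quotient M).2 ⟨inferInstance, hs⟩)
    set f := QuotientGroup.mk' M
    have hCb := ih _ hlt (G ⧸ M) rfl (hyp_quotient h M) hQns (C.map f)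
      (Subgroup.Normal.map inferInstance f (QuotientGroup.mk'_surjective M))
      (by haveI := hCs; exact Group.isSolvable_of_surjective (f.subgroupMap_surjective C))
    rw [Subgroup.map_eq_bot_iff, QuotientGroup.ker_mk'] at hCb
    have hr2 : r = 2 := by
      by_contra hne
      obtain ⟨k, hk⟩ := hMr ⟨t, hCb htC⟩
      have hd : 2 ∣ r ^ k := ht ▸ orderOf_dvd_of_pow_eq_one (congrArg Subtype.val hk)
      exact hne ((Nat.prime_dvd_prime_iff_eq Nat.prime_two hr).1 (Nat.prime_two.dvd_of_dvd_pow hd)).symm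
    refine hQns (Cfsg.Agent.S0205.result ?_)
    rw [← index_eq_card]
    exact Odd.of_dvd_nat (Nat.odd_iff.2 (Nat.two_dvd_ne_zero.1 S.not_dvd_index))
      (index_dvd_of_le ((h2 hr2).trans hCb))
  by_cases hr2 : r = 2
  · subst hr2
    refine ⟨Or.inl rfl, m, le_centralizer_iff_isMulCommutative.2 hMc hm, hmo, fun _ s hs =>
      mem_centralizer_iff.2 fun a ha => ?_⟩
    have haS : a ∈ (S : Subgroup G) := mem_sylow_of_normalizes' S hMr ha
    exact setLike_mul_comm' (h.sylow_elementary S).1 haS hs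
  by_cases hrp : r = p
  · subst hrp
    refine ⟨Or.inr rfl, ?_⟩
    suffices hK : ∃ k ∈ (S : Subgroup G), k ≠ 1 ∧ k ∈ C by
      obtain ⟨k, hk, hk1, hkC⟩ := hK
      exact ⟨k, hkC, orderOf_eq_prime (h.sylow_exp S hk) hk1, fun e => absurd e hr2⟩
    obtain ⟨c, l, hl, hl2, hcl, hcN, hcC⟩ := h.exists_prime_mover S hns
    by_cases hlp : l = r
    · subst hlp
      haveI : IsMulCommutative ↥(S : Subgroup G) := h.sylow_comm S
      have hScomm : ∀ a ∈ (S : Subgroup G), ∀ b ∈ (S : Subgroup G), Commute a b := fun a ha b hb =>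
        setLike_mul_comm (s := (S : Subgroup G)) ha hb
      let φ : ↥(S : Subgroup G) →* G :=
        { toFun := fun s => c * (s : G) * c⁻¹ * (s : G)⁻¹
          map_one' := by simp
          map_mul' := fun s t => by
            have hcs : c * (s : G) * c⁻¹ ∈ (S : Subgroup G) := (mem_normalizer_iff.1 hcN _).1 s.2
            have hct : c * (t : G) * c⁻¹ ∈ (S : Subgroup G) := (mem_normalizer_iff.1 hcN _).1 t.2
            have e1 := hScomm _ (mul_mem hct (inv_mem t.2)) (s : G)⁻¹ (inv_mem s.2)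
            calc c * ((s * t : ↥(S : Subgroup G)) : G) * c⁻¹ * ((s * t : ↥(S : Subgroup G)) : G)⁻¹
                = (c * s * c⁻¹) * ((c * t * c⁻¹ * (t : G)⁻¹) * (s : G)⁻¹) := by
                  rw [Subgroup.coe_mul]; group
              _ = (c * s * c⁻¹ * (s : G)⁻¹) * (c * t * c⁻¹ * (t : G)⁻¹) := by rw [e1.eq]; group }
      have hφS : ∀ s, φ s ∈ (S : Subgroup G) := fun s =>
        mul_mem ((mem_normalizer_iff.1 hcN _).1 s.2) (inv_mem s.2)
      set K := φ.range
      have hKS : K ≤ (S : Subgroup G) := by rintro _ ⟨s, rfl⟩; exact hφS s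
      have hcK : c ∈ normalizer (K : Set G) := by
        have hle : K.map (MulAut.conj c).toMonoidHom ≤ K := by
          rintro _ ⟨_, ⟨s, rfl⟩, rfl⟩
          refine ⟨⟨c * s * c⁻¹, (mem_normalizer_iff.1 hcN _).1 s.2⟩, ?_⟩
          show c * (c * (s : G) * c⁻¹) * c⁻¹ * (c * (s : G) * c⁻¹)⁻¹ = c * (c * (s : G) * c⁻¹ * (s : G)⁻¹) * c⁻¹
          group
        exact mem_normalizer_iff_map_conj_eq.2 (eq_of_le_of_card_ge hle
          (Nat.card_congr (K.equivMapOfInjective _ (MulAut.conj c).injective).toEquiv).le)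
      have hfix : ∀ k ∈ K, Commute c k → k = 1 := by
        rintro _ ⟨s, rfl⟩ hck
        have hcsc : c * (s : G) * c⁻¹ = φ s * s := by
          show _ = c * (s : G) * c⁻¹ * (s : G)⁻¹ * s
          group
        have hit : ∀ i : ℕ, c ^ i * (s : G) * (c ^ i)⁻¹ = φ s ^ i * s := by
          intro i
          induction i with
          | zero => simp
          | succ i ih =>
            rw [pow_succ', show c * c ^ i * (s : G) * (c * c ^ i)⁻¹ = c * (c ^ i * s * (c ^ i)⁻¹) * c⁻¹ by group,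
              ih, show c * (φ s ^ i * s) * c⁻¹ = (c * φ s ^ i * c⁻¹) * (c * s * c⁻¹) by group,
              (hck.pow_right i).eq, mul_inv_cancel_right, hcsc, ← mul_assoc, ← pow_succ, pow_succ']
        have e := hit l
        rw [show c ^ l = 1 by rw [← hcl, pow_orderOf_eq_one], one_mul, inv_one, mul_one, right_eq_mul] at e
        exact orderOf_eq_one_iff.1 (Nat.eq_one_of_dvd_coprimes ((Nat.coprime_primes Nat.prime_two hl).2 hl2.symm)
          (orderOf_dvd_of_pow_eq_one (h.sylow_exp S (hφS s))) (orderOf_dvd_of_pow_eq_one e))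
      have hcop : (Nat.card M).Coprime (Nat.card K) := by
        obtain ⟨a, ha⟩ := hMr.exists_card_eq
        obtain ⟨b, hb⟩ := (S.2.to_le hKS).exists_card_eq
        rw [ha, hb]
        exact Nat.Coprime.pow a b ((Nat.coprime_primes hl Nat.prime_two).2 hl2)
      have hKC : K ≤ C := CfsgLib.OneComp.centralizes hl hMr hcop hl
        (by rw [← hcl]; exact pow_orderOf_eq_one c) hcK hfix fun a ha k _ => by
        refine h.pow_p_eq_one (k := 2) ?_
        have hd : (k * c * k⁻¹) ^ l = 1 := by rw [conj_pow, ← hcl, pow_orderOf_eq_one, mul_one, mul_inv_cancel]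
        have hM' : (a * (k * c * k⁻¹)) ^ l ∈ M := by
          refine (QuotientGroup.eq_one_iff _).1 ?_
          show QuotientGroup.mk' M _ = 1
          rw [map_pow, map_mul, show QuotientGroup.mk' M a = 1 from (QuotientGroup.eq_one_iff a).2 ha, one_mul,
            ← map_pow, hd, map_one]
        rw [sq, pow_mul]
        exact hexp _ hM'
      obtain ⟨s, hs, hsc⟩ : ∃ s, s ∈ (S : Subgroup G) ∧ ¬ Commute c s := by
        by_contra hall
        push Not at hall
        exact hcC (mem_centralizer_iff.2 fun s hs => (hall s hs).eq.symm)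
      exact ⟨φ ⟨s, hs⟩, hφS _, fun e => hsc (mul_inv_eq_iff_eq_mul.1 (mul_inv_eq_one.1 e)), hKC ⟨_, rfl⟩⟩
    · have hmov := h.mover_of_ne S hl hl2 hlp hcl hcN
      have hSC := h.centralizes_pgroup S hl hl2 hcl hcN hmov.fix hMr
        (hnorm (zpowers c) (mem_zpowers c)) (hnorm _)
      haveI : Nontrivial ↥(S : Subgroup G) := Finite.one_lt_card_iff_nontrivial.1 (by omega)
      obtain ⟨s, hs⟩ := exists_ne (1 : ↥(S : Subgroup G))
      exact ⟨s, s.2, fun e => hs (Subtype.ext e), hSC s.2⟩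
  · exfalso
    have hodd : Odd (Nat.card M) := by
      obtain ⟨k, hk⟩ := hMr.exists_card_eq
      rw [hk]
      exact (hr.odd_of_ne_two hr2).pow
    refine hM1 (le_bot_iff.1 (CfsgLib.OneComp.le_of_fixed (h.sylow_elementary S) h4 (hnorm _) hodd
      fun e _ he x hx => ?_))
    by_contra hx1
    have hx1' : x ≠ 1 := fun e' => hx1 (mem_bot.2 e')
    exact (h.prime_commute (Or.inl rfl) hr he (orderOf_eq_prime (hexp x hx.1) hx1')
      (mem_centralizer_singleton_iff.1 hx.2).symm).elim hr2 hrp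
where
  mem_sylow_of_normalizes' {G : Type u} [Group G] [Finite G] [Fact (Nat.Prime 2)] (S : Sylow 2 G) {M : Subgroup G}
      [M.Normal] (hM : IsPGroup 2 M) {a : G} (ha : a ∈ M) : a ∈ (S : Subgroup G) :=
    (S.3 (hM.to_sup_of_normal_left S.2) le_sup_right).le (mem_sup_left ha)
  setLike_mul_comm' {G : Type u} [Group G] {H : Subgroup G} (hH : IsMulCommutative H) {a b : G} (ha : a ∈ H)
      (hb : b ∈ H) : a * b = b * a :=
    congrArg Subtype.val (hH.is_comm.comm (⟨a, ha⟩ : H) ⟨b, hb⟩)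

/-- Solvable normal subgroups are trivial. -/
theorem radical (h : Hyp G p) (hns : ¬ Group.IsSolvable G) {N : Subgroup G} (hN : N.Normal)
    (hs : Group.IsSolvable N) : N = ⊥ :=
  radical_aux _ G rfl h hns N hN hs

/-- A minimal normal subgroup is simple. -/
theorem exists_simple_minimal (h : Hyp G p) (hns : ¬ Group.IsSolvable G) :
    ∃ N : Subgroup G, N.Normal ∧ IsSimpleGroup N ∧ ¬ Group.IsSolvable N := by
  haveI : Nontrivial G := not_subsingleton_iff_nontrivial.1 fun hs => hns inferInstance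
  obtain ⟨N, hNn, hN1, -, hmin⟩ := CfsgLib.Solvable.exists_minimal_normal_le
    (N := (⊤ : Subgroup G)) top_ne_bot
  haveI := hNn
  have hNs : ¬ Group.IsSolvable N := fun hs => hN1 (radical h hns hNn hs)
  refine ⟨N, hNn, ?_, hNs⟩
  haveI : Nontrivial N := (nontrivial_iff_ne_bot N).2 hN1
  obtain ⟨L, hLn, hL1, -, hLmin⟩ := CfsgLib.Solvable.exists_minimal_normal_le
    (N := (⊤ : Subgroup N)) top_ne_bot
  haveI := hLn
  have hLs : ¬ Group.IsSolvable L := fun hs => hL1 (radical (h.subgroup N) hNs hLn hs)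
  suffices hLtop : L = ⊤ by
    refine ⟨fun K hK => ?_⟩
    rcases hLmin K hK (hLtop.symm ▸ le_top) with e | e
    · exact Or.inl e
    · exact Or.inr (e.trans hLtop)
  by_contra hLtop
  obtain ⟨g, hg⟩ : ∃ g : G, L.map (MulAut.conjNormal g : MulAut N).toMonoidHom ≠ L := by
    by_contra hall
    push Not at hall
    haveI : (L.map N.subtype).Normal := ⟨fun x hx g => by
      obtain ⟨y, hy, rfl⟩ := hx
      refine ⟨(MulAut.conjNormal g : MulAut N) y, ?_, MulAut.conjNormal_apply g y⟩
      have hm := mem_map_of_mem (MulAut.conjNormal g : MulAut N).toMonoidHom hy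
      rwa [hall g] at hm⟩
    rcases hmin _ inferInstance (map_subtype_le L) with e | e
    · exact hL1 ((map_eq_bot_iff_of_injective _ N.subtype_injective).1 e)
    · refine hLtop (map_injective N.subtype_injective ?_)
      rw [e, ← MonoidHom.range_eq_map, range_subtype]
  set σ : MulAut N := MulAut.conjNormal g
  set L' := L.map σ.toMonoidHom
  haveI : L'.Normal := Normal.map hLn _ σ.surjective
  have hdisj : L ⊓ L' = ⊥ := by
    refine (hLmin _ inferInstance inf_le_left).resolve_right fun e => hg ?_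
    have hle : L ≤ L' := inf_eq_left.1 e
    refine (eq_of_le_of_card_ge hle ?_).symm
    rw [card_map_of_injective (f := σ.toMonoidHom) σ.injective]
  obtain ⟨t, ht⟩ : ∃ t : L, orderOf t = 2 := by
    haveI : Fact (Nat.Prime 2) := ⟨Nat.prime_two⟩
    refine exists_prime_orderOf_dvd_card' 2 (by_contra fun h2 => hLs (Cfsg.Agent.S0205.result ?_))
    exact Nat.odd_iff.2 (Nat.two_dvd_ne_zero.1 h2)
  rw [← orderOf_coe] at ht
  refine hLs ?_
  haveI : Group.IsSolvable L' := (h.subgroup N).solvable_of_le_centralizer (Or.inl rfl) ht fun y hy =>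
    mem_centralizer_singleton_iff.2
      (commute_of_normal_of_disjoint L L' inferInstance inferInstance (disjoint_iff.2 hdisj) _ _ t.2 hy).symm
  exact Group.isSolvable_of_isSolvable_injective
    (f := (L.equivMapOfInjective σ.toMonoidHom σ.injective).toMonoidHom) (MulEquiv.injective _)

end Radical

section Top

variable (h : Hyp G p) {N : Subgroup G} [N.Normal]

include h in
/-- The normaliser of a cyclic subgroup decides whether `N` is everything. -/
theorem eq_top_of_cyclic (h2N : 2 ∣ Nat.card N)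
    (hinv : ∀ a b : N, orderOf a = 2 → orderOf b = 2 → IsConj a b) {a : N} {r : ℕ} (hr : r.Prime)
    (hr2 : r ≠ 2) (hrp : r ≠ p) (ha : orderOf a = r)
    (hconj : ∀ b : N, orderOf b = r → ∃ n : N, n * a * n⁻¹ ∈ zpowers b)
    (hm : ∀ o, (o = 2 ∨ o = p ∨ o = 2 * p) → o ∣ r - 1 →
      o ∣ Nat.card ((N.subgroupOf (normalizer ((zpowers (a : G) : Subgroup G) : Set G))).map
        (zpowers (a : G)).normalizerMonoidHom)) : N = ⊤ := by
  classical
  haveI : Fact (Nat.Prime 2) := ⟨Nat.prime_two⟩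
  haveI := Fact.mk hr
  rw [← index_eq_one]
  by_contra hi
  obtain ⟨s, hs, hsi⟩ := Nat.exists_prime_and_dvd hi
  haveI := Fact.mk hs
  obtain ⟨y, hy⟩ := exists_prime_orderOf_dvd_card' (G := G ⧸ N) s (index_eq_card N ▸ hsi)
  set π := QuotientGroup.mk' N
  have hπN : ∀ n : N, π (n : G) = 1 := fun n => (QuotientGroup.eq_one_iff _).2 n.2
  obtain ⟨g, rfl⟩ := QuotientGroup.mk'_surjective N y
  have hs2p : s = 2 ∨ s = p := by
    obtain ⟨t, ht⟩ := exists_prime_orderOf_dvd_card' (G := N) 2 h2N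
    have htg : orderOf (⟨g * t * g⁻¹, ‹N.Normal›.conj_mem _ t.2 g⟩ : N) = 2 := by
      rw [← orderOf_coe, CfsgLib.Invol.orderOf_conj_eq, orderOf_coe, ht]
    obtain ⟨n, hn⟩ := isConj_iff.1 (hinv _ t htg ht)
    have hn' : (n : G) * (g * t * g⁻¹) * (n : G)⁻¹ = t := congrArg Subtype.val hn
    have hc : Commute (t : G) ((n : G) * g) := by
      show (t : G) * _ = _ * (t : G)
      conv_lhs => rw [← hn']
      group
    have hd : s ∣ orderOf ((n : G) * g) := by
      rw [← hy, show π g = π ((n : G) * g) by rw [map_mul, hπN, one_mul]]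
      exact orderOf_map_dvd π _
    exact h.prime_commute (Or.inl rfl) hs (by rw [orderOf_coe, ht])
      (orderOf_pow_orderOf_div (orderOf_pos _).ne' hd) (hc.pow_right _)
  set A := zpowers (a : G) with hA
  set M := normalizer (A : Set G)
  set φ := A.normalizerMonoidHom
  -- move `g` into the normaliser
  have hag : orderOf (⟨g * a * g⁻¹, ‹N.Normal›.conj_mem _ a.2 g⟩ : N) = r := by
    rw [← orderOf_coe, CfsgLib.Invol.orderOf_conj_eq, orderOf_coe, ha]
  obtain ⟨n, hn⟩ := hconj _ hag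
  obtain ⟨i, hi'⟩ := mem_zpowers_iff.1 hn
  have hi'' : (g * a * g⁻¹) ^ i = (n : G) * a * (n : G)⁻¹ := by
    have := congrArg (Subtype.val : N → G) hi'
    simpa using this
  have hgM : (n : G)⁻¹ * g ∈ M := by
    rw [mem_normalizer_iff_map_conj_eq, hA, MonoidHom.map_zpowers]
    refine (eq_of_le_of_card_ge (zpowers_le.2 ?_) ?_).symm
    · refine mem_zpowers_iff.2 ⟨i, ?_⟩
      show ((n : G)⁻¹ * g * a * ((n : G)⁻¹ * g)⁻¹) ^ i = a
      rw [show (n : G)⁻¹ * g * a * ((n : G)⁻¹ * g)⁻¹ = (n : G)⁻¹ * (g * a * g⁻¹) * ((n : G)⁻¹)⁻¹ by group,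
        conj_zpow, hi'']
      group
    · rw [Nat.card_zpowers, Nat.card_zpowers]
      exact le_of_eq (CfsgLib.Invol.orderOf_conj_eq _ _)
  set x : M := ⟨(n : G)⁻¹ * g, hgM⟩
  have hx : π (x : G) = π g := by
    show π ((n : G)⁻¹ * g) = _
    rw [map_mul, map_inv, hπN, inv_one, one_mul]
  have hsx : s ∣ orderOf (x : G) := hy ▸ hx ▸ orderOf_map_dvd π _
  have ho : orderOf (x : G) = 2 ∨ orderOf (x : G) = p ∨ orderOf (x : G) = 2 * p := by
    rcases h.ord_cases (x := (x : G)) with e | e | e | ⟨e1, e2⟩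
    · exact Or.inl e
    · exact Or.inr (Or.inl e)
    · exact Or.inr (Or.inr e)
    · rcases hs2p with rfl | rfl
      · exact absurd hsx e1
      · exact absurd hsx e2
  have hker : ∀ z : M, φ z = 1 → ¬ 2 ∣ orderOf (z : G) ∧ ¬ p ∣ orderOf (z : G) := fun z hz => by
    have hz' : z ∈ φ.ker := hz
    rw [normalizerMonoidHom_ker] at hz'
    exact not_dvd_of_commute h hr hr2 hrp (by rw [orderOf_coe, ha])
      (mem_centralizer_iff.1 hz' _ (mem_zpowers (a : G))).symm
  have hφx : orderOf (φ x) = orderOf (x : G) := by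
    refine Nat.dvd_antisymm ((orderOf_map_dvd φ x).trans (orderOf_coe x).symm.dvd) ?_
    obtain ⟨e1, e2⟩ := hker (x ^ orderOf (φ x)) (by rw [map_pow, pow_orderOf_eq_one])
    rw [Subgroup.coe_pow] at e1 e2
    refine orderOf_dvd_of_pow_eq_one (orderOf_eq_one_iff.1 ?_)
    have hd : orderOf ((x : G) ^ orderOf (φ x)) ∣ 2 * p := by
      refine (orderOf_pow_dvd _).trans ?_
      rcases ho with e | e | e <;> rw [e]
      exacts [dvd_mul_right 2 p, dvd_mul_left p 2]
    refine Nat.eq_one_of_dvd_coprimes ?_ dvd_rfl hd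
    exact Nat.Coprime.mul_right ((Nat.prime_two.coprime_iff_not_dvd.2 e1).symm)
      ((h.prime.coprime_iff_not_dvd.2 e2).symm)
  have hAcard : Nat.card A = r := by rw [hA, Nat.card_zpowers, orderOf_coe, ha]
  haveI : IsCyclic A := isCyclic_of_prime_card hAcard
  haveI : IsCyclic (MulAut A) := by
    haveI : IsCyclic (ZMod (Nat.card A))ˣ := by rw [hAcard]; infer_instance
    exact isCyclic_of_surjective (IsCyclic.mulAutMulEquiv A).symm.toMonoidHom
      (IsCyclic.mulAutMulEquiv A).symm.surjective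
  have hor : orderOf (x : G) ∣ r - 1 := by
    have := orderOf_dvd_natCard (φ x)
    rwa [hφx, IsCyclic.card_mulAut, hAcard, Nat.totient_prime hr] at this
  obtain ⟨d, hd⟩ := hm _ ho hor
  obtain ⟨z, hz, hzx⟩ := mem_of_pow_eq_one ((N.subgroupOf M).map φ) (x := φ x)
    (by rw [hd, pow_mul, ← hφx, pow_orderOf_eq_one, one_pow])
  obtain ⟨e1, e2⟩ := hker (z⁻¹ * x) (by rw [map_mul, map_inv, hzx, inv_mul_cancel])
  have hd' : s ∣ orderOf ((z⁻¹ * x : M) : G) := by
    refine hy ▸ ?_
    have : π g = π ((z⁻¹ * x : M) : G) := by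
      rw [Subgroup.coe_mul, Subgroup.coe_inv, map_mul, map_inv, hx,
        show π (z : G) = 1 from (QuotientGroup.eq_one_iff _).2 (mem_subgroupOf.1 hz), inv_one, one_mul]
    rw [this]
    exact orderOf_map_dvd π _
  rcases hs2p with rfl | rfl
  · exact e1 hd'
  · exact e2 hd'

include h in
/-- The same with an inverting involution. -/
theorem eq_top_of_inverted (h2N : 2 ∣ Nat.card N)
    (hinv : ∀ a b : N, orderOf a = 2 → orderOf b = 2 → IsConj a b) {a : N} {r : ℕ} (hr : r.Prime)
    (hr2 : r ≠ 2) (hrp : r ≠ p) (ha : orderOf a = r)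
    (hconj : ∀ b : N, orderOf b = r → ∃ n : N, n * a * n⁻¹ ∈ zpowers b)
    (hw : ∃ w : N, w * w = 1 ∧ w * a * w⁻¹ = a⁻¹) (hpr : ¬ p ∣ r - 1) : N = ⊤ := by
  refine eq_top_of_cyclic h h2N hinv hr hr2 hrp ha hconj fun o ho hor => ?_
  obtain ⟨w, hw2, hwa⟩ := hw
  rcases ho with rfl | rfl | rfl
  · have hwM : (w : G) ∈ normalizer ((zpowers (a : G) : Subgroup G) : Set G) := by
      rw [mem_normalizer_iff_map_conj_eq, MonoidHom.map_zpowers]
      show zpowers ((w : G) * a * (w : G)⁻¹) = _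
      rw [show (w : G) * a * (w : G)⁻¹ = ((w * a * w⁻¹ : N) : G) from rfl, hwa, Subgroup.coe_inv, zpowers_inv]
    set φ := (zpowers (a : G)).normalizerMonoidHom
    have hmem : φ ⟨w, hwM⟩ ∈ (N.subgroupOf (normalizer ((zpowers (a : G) : Subgroup G) : Set G))).map φ :=
      mem_map_of_mem φ (mem_subgroupOf.2 w.2)
    refine dvd_of_eq_of_dvd ?_ (Subgroup.orderOf_dvd_natCard _ hmem)
    refine (orderOf_eq_prime ?_ fun e1 => ?_).symm
    · rw [← map_pow, show (⟨(w : G), hwM⟩ : ↥(normalizer ((zpowers (a : G) : Subgroup G) : Set G))) ^ 2 = 1 from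
        Subtype.ext (by rw [Subgroup.coe_pow, sq]; exact congrArg Subtype.val hw2), map_one]
    · have hk : (⟨(w : G), hwM⟩ : ↥(normalizer ((zpowers (a : G) : Subgroup G) : Set G))) ∈ φ.ker := e1
      rw [normalizerMonoidHom_ker] at hk
      have hc : Commute w a := Subtype.ext (mem_centralizer_iff.1 hk _ (mem_zpowers (a : G))).symm
      rw [hc.eq, mul_inv_cancel_right] at hwa
      have ha2 : orderOf a ∣ 2 := orderOf_dvd_of_pow_eq_one (by rw [sq]; exact eq_inv_iff_mul_eq_one.1 hwa)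
      rw [ha] at ha2
      exact hr2 ((Nat.prime_dvd_prime_iff_eq hr Nat.prime_two).1 ha2)
  · exact absurd hor hpr
  · exact absurd ((dvd_mul_left p 2).trans hor) hpr
where
  dvd_of_eq_of_dvd {a b c : ℕ} (h1 : a = b) (h2 : b ∣ c) : a ∣ c := h1 ▸ h2

/-- Cyclic Sylow subgroups: subgroups of prime order are conjugate. -/
theorem conj_of_coprime_part {U : Type*} [Group U] [Finite U] {z : U} {r k rest : ℕ} (hr : r.Prime)
    (hz : orderOf z = k) (hk : r ∣ k) (hU : Nat.card U = k * rest) (hrest : ¬ r ∣ rest) :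
    ∃ a : U, orderOf a = r ∧ a ∈ zpowers z ∧ ∀ b : U, orderOf b = r → ∃ n : U, n * a * n⁻¹ ∈ zpowers b := by
  classical
  haveI := Fact.mk hr
  have hk0 : k ≠ 0 := hz ▸ (orderOf_pos z).ne'
  set v := k.factorization r
  have hv : r ^ v ∣ k := Nat.ordProj_dvd k r
  set z' := z ^ (k / r ^ v)
  have hz' : orderOf z' = r ^ v := by
    have := orderOf_pow_orderOf_div (orderOf_pos z).ne' (hz.symm ▸ hv : r ^ v ∣ orderOf z)
    rwa [hz] at this
  have hv0 : 1 ≤ v := hr.dvd_iff_one_le_factorization hk0 |>.1 hk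
  have hP : IsPGroup r (zpowers z') := IsPGroup.of_card ((Nat.card_zpowers z').trans hz')
  have hidx : ¬ r ∣ (zpowers z').index := by
    have h1 := (zpowers z').card_mul_index
    rw [Nat.card_zpowers, hz', hU] at h1
    intro hd
    have h2 : r ^ (v + 1) ∣ k * rest := by rw [← h1, pow_succ]; exact Nat.mul_dvd_mul_left _ hd
    have h3 : r ^ (v + 1) ∣ k := ((hr.coprime_iff_not_dvd.2 hrest).pow_left _).dvd_of_dvd_mul_right h2
    exact Nat.pow_succ_factorization_not_dvd hk0 hr h3
  let P : Sylow r U := hP.toSylow hidx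
  refine ⟨z' ^ r ^ (v - 1), ?_, pow_mem (pow_mem (mem_zpowers z) _) _, fun b hb => ?_⟩
  · have hd : r ^ (v - 1) = orderOf z' / r := by
      rw [hz', ← Nat.pow_div hv0 hr.pos, pow_one]
    rw [hd]
    exact orderOf_pow_orderOf_div (orderOf_pos z').ne' (hz' ▸ dvd_pow_self r (by omega))
  obtain ⟨Q, hQ⟩ := (IsPGroup.of_card (n := 1) (by rw [Nat.card_zpowers, hb, pow_one]) :
    IsPGroup r (zpowers b)).exists_le_sylow
  obtain ⟨g, hg⟩ := MulAction.exists_smul_eq U P Q
  have hbQ := hQ (mem_zpowers b)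
  rw [← hg] at hbQ
  obtain ⟨w, hw, hwb⟩ := hbQ
  refine ⟨g, ?_⟩
  have hwo : orderOf w = r := by
    rw [← hb, ← hwb]
    exact (orderOf_injective _ (MulDistribMulAction.toMulEquiv U (MulAut.conj g)).injective w).symm
  have hmem : z' ^ r ^ (v - 1) ∈ zpowers w := by
    obtain ⟨i, hi⟩ := mem_zpowers_iff.1 (show w ∈ zpowers z' from hw)
    haveI : IsCyclic (zpowers z') := inferInstance
    have := mem_of_pow_eq_one ((zpowers w).subgroupOf (zpowers z'))
      (x := (⟨z' ^ r ^ (v - 1), pow_mem (mem_zpowers z') _⟩ : zpowers z')) (by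
        rw [Nat.card_congr (subgroupOfEquivOfLe (zpowers_le.2 (show w ∈ zpowers z' from hw))).toEquiv,
          Nat.card_zpowers, hwo]
        refine Subtype.ext ?_
        show (z' ^ r ^ (v - 1)) ^ r = 1
        rw [← pow_mul, ← pow_succ, Nat.sub_add_cancel hv0, ← hz', pow_orderOf_eq_one])
    exact mem_subgroupOf.1 this
  obtain ⟨i, hi⟩ := mem_zpowers_iff.1 hmem
  refine mem_zpowers_iff.2 ⟨i, ?_⟩
  rw [← hwb, ← hi]
  show (g * w * g⁻¹) ^ i = g * w ^ i * g⁻¹
  exact conj_zpow

/-- An element of prime order in a copy of `PSL₂` away from the characteristic is inverted. -/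
theorem inverted_of_psl {U : Type*} [Group U] {F : Type} [Field F] [Fintype F] {ℓ : ℕ} [Fact ℓ.Prime] [CharP F ℓ]
    (e : U ≃* Matrix.ProjectiveSpecialLinearGroup (Fin 2) F) {a : U} (ha : ¬ orderOf a ∣ ℓ) :
    ∃ w : U, w * w = 1 ∧ w * a * w⁻¹ = a⁻¹ := by
  obtain ⟨w, h1, h2⟩ := CfsgLib.Linear.PSLTwo.exists_involution ℓ (e a) (by rwa [MulEquiv.orderOf_eq])
  refine ⟨e.symm w, by rw [← map_mul, h1, map_one], e.injective ?_⟩
  rw [map_mul, map_mul, map_inv, map_inv, e.apply_symm_apply, h2]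

include h in
/-- The even case. -/
theorem eq_top_even {F : Type} [Field F] [Fintype F] {n : ℕ} (hn : 2 ≤ n) (hF : Fintype.card F = 2 ^ n)
    (e : N ≃* Matrix.ProjectiveSpecialLinearGroup (Fin 2) F) : N = ⊤ := by
  haveI : Fact (Nat.Prime 2) := ⟨Nat.prime_two⟩
  haveI := charP_two (n := n) (by omega) hF
  have hcard : Nat.card N = 2 ^ n * ((2 ^ n) ^ 2 - 1) := by
    rw [Nat.card_congr e.toEquiv, card_psl_two_pow (by omega) hF]
  have h2N : 2 ∣ Nat.card N := by rw [hcard]; exact dvd_mul_of_dvd_left (dvd_pow_self 2 (by omega)) _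
  have hinv : ∀ a b : N, orderOf a = 2 → orderOf b = 2 → IsConj a b := fun a b => invol_conj_even e
  obtain ⟨⟨x, hx⟩, ⟨y, hy⟩⟩ := exists_orders_even e (by omega) hF
  obtain ⟨z, k, hk, hzk, hk3⟩ : ∃ (z : N) (k : ℕ), orderOf z = k ∧ 3 ∣ k ∧ (k = 2 ^ n - 1 ∨ k = 2 ^ n + 1) := by
    have h3 : 2 ^ n % 3 = 1 ∨ 2 ^ n % 3 = 2 := by
      rcases Nat.even_or_odd' n with ⟨j, rfl | rfl⟩
      · left; rw [pow_mul, Nat.pow_mod]; norm_num
      · right; rw [pow_succ, Nat.mul_mod, pow_mul, Nat.pow_mod]; norm_num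
    rcases h3 with h3 | h3
    · exact ⟨x, _, hx, Nat.dvd_of_mod_eq_zero (by omega), Or.inl rfl⟩
    · exact ⟨y, _, hy, Nat.dvd_of_mod_eq_zero (by omega), Or.inr rfl⟩
  by_cases hp3 : p = 3
  · subst hp3
    have h4 : 2 ^ 2 ≤ 2 ^ n := Nat.pow_le_pow_right (by norm_num) hn
    have hodd : 2 ^ n % 2 = 0 := Nat.mod_eq_zero_of_dvd (dvd_pow_self 2 (by omega))
    have hz : orderOf (z : G) = 3 ∨ orderOf (z : G) = 2 * 3 := h.pee _ (by rw [orderOf_coe, hk]; exact hzk)
    rw [orderOf_coe, hk] at hz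
    have h4' : 2 ^ n = 4 := by omega
    rw [h4'] at hcard hy
    norm_num at hcard hy
    obtain ⟨a, ha, -, hconj⟩ := conj_of_coprime_part (z := y) (r := 5) (k := 5) (rest := 12) (by norm_num) hy
      dvd_rfl (by rw [hcard]) (by norm_num)
    exact eq_top_of_inverted h h2N hinv (r := 5) (by norm_num) (by norm_num) (by norm_num) ha hconj
      (inverted_of_psl e (ℓ := 2) (by rw [ha]; norm_num)) (by norm_num)
  · obtain ⟨a, ha⟩ := exists_orderOf_of_dvd (g := z) (n := 3) (hk ▸ hzk)
    refine eq_top_of_inverted h h2N hinv Nat.prime_three (by norm_num) (Ne.symm hp3) ha (fun b hb => ?_)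
      (inverted_of_psl e (ℓ := 2) (by rw [ha]; norm_num)) fun hd => h.odd ?_
    · obtain ⟨g, hg⟩ := isConj_iff.1 (CfsgLib.CNStruct.conj_three_even (e a) (e b)
        (by rw [MulEquiv.orderOf_eq, ha]) (by rw [MulEquiv.orderOf_eq, hb]))
      refine ⟨e.symm g, ?_⟩
      rw [show e.symm g * a * (e.symm g)⁻¹ = b from e.injective (by simp [hg])]
      exact mem_zpowers b
    · exact (Nat.prime_dvd_prime_iff_eq h.prime Nat.prime_two).1 hd

include h in
/-- The odd case. -/
theorem eq_top_odd {F : Type} [Field F] [Fintype F] (hodd : Odd (Fintype.card F))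
    (hq : Fintype.card F = 4 * p + 1 ∨ Fintype.card F + 1 = 4 * p) [IsSimpleGroup N]
    (e : N ≃* Matrix.ProjectiveSpecialLinearGroup (Fin 2) F) : N = ⊤ := by
  classical
  haveI : Fact (Nat.Prime 2) := ⟨Nat.prime_two⟩
  obtain ⟨ℓ, hℓc⟩ := CharP.exists F
  obtain ⟨dℓ, hℓ, hℓq⟩ := FiniteField.card F ℓ
  haveI := Fact.mk hℓ
  have hp3 := h.two_lt
  set q := Fintype.card F with hqdef
  have hcard : 2 * Nat.card N = q * (q ^ 2 - 1) := by rw [Nat.card_congr e.toEquiv]; exact card_psl_odd hodd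
  have hsq : q ^ 2 - 1 = (q - 1) * (q + 1) := by
    rw [Nat.mul_comm, ← Nat.sq_sub_sq, one_pow]
  have h2N : 2 ∣ Nat.card N := by
    have h2p : 2 * p ∣ Nat.card N ∧ True := by
      obtain ⟨⟨x, hx⟩, ⟨y, hy⟩⟩ := exists_orders_odd e hodd
      rcases hq with hq | hq
      · exact ⟨(show orderOf x = 2 * p by rw [hx, ← hqdef]; omega) ▸ orderOf_dvd_natCard x, trivial⟩
      · exact ⟨(show orderOf y = 2 * p by rw [hy, ← hqdef]; omega) ▸ orderOf_dvd_natCard y, trivial⟩
    exact (dvd_mul_right 2 p).trans h2p.1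
  have hinv : ∀ a b : N, orderOf a = 2 → orderOf b = 2 → IsConj a b := by
    have key : ∀ c : N, orderOf c = 2 → e c * e c = 1 ∧ e c ≠ 1 := fun c hc => by
      have := pow_orderOf_eq_one c
      rw [hc, sq] at this
      refine ⟨by rw [← map_mul, this, map_one], fun he => ?_⟩
      rw [e.injective (he.trans (map_one e).symm), orderOf_one] at hc
      omega
    intro a b ha hb
    obtain ⟨g, hg⟩ := isConj_iff.1 (CfsgLib.Linear.FourGroups.involutions_conj hodd (key a ha).1 (key a ha).2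
      (key b hb).1 (key b hb).2)
    exact isConj_iff.2 ⟨e.symm g, e.injective (by simp [hg])⟩
  by_cases h13 : q = 13
  · -- the normaliser of a subgroup of order thirteen
    have hp : p = 3 := by omega
    subst hp
    have hℓ13 : ℓ = 13 := by
      have : ℓ ∣ 13 := h13 ▸ hℓq ▸ dvd_pow_self ℓ dℓ.pos.ne'
      exact (Nat.prime_dvd_prime_iff_eq hℓ (by norm_num)).1 this
    obtain ⟨g₀, hg₀⟩ := CfsgLib.PSL2Spec.exists_orderOf_p (F := F) ℓ
    rw [hℓ13] at hg₀
    haveI : Fact (Nat.Prime 13) := ⟨by norm_num⟩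
    have hc : Nat.card N = 1092 := by rw [h13] at hcard; norm_num at hcard; omega
    have hz : orderOf (e.symm g₀) = 13 := by rw [MulEquiv.orderOf_eq, hg₀]
    obtain ⟨a, ha, -, hconj⟩ := conj_of_coprime_part (z := e.symm g₀) (r := 13) (k := 13) (rest := 84)
      (by norm_num) hz dvd_rfl (by rw [hc]) (by norm_num)
    refine eq_top_of_cyclic h h2N hinv (r := 13) (by norm_num) (by norm_num) (by norm_num) ha hconj
      fun o ho _ => ?_
    set M := normalizer ((zpowers (a : G) : Subgroup G) : Set G) with hM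
    set φ := (zpowers (a : G)).normalizerMonoidHom
    set K := N.subgroupOf M
    let P : Sylow 13 N := (IsPGroup.of_card (n := 1) (by rw [Nat.card_zpowers, ha, pow_one]) :
      IsPGroup 13 (zpowers a)).toSylow (fun hd => by
        have := (zpowers a).card_mul_index
        rw [Nat.card_zpowers, ha, hc] at this
        omega)
    have hK : Nat.card K = 78 := by
      have e1 : Nat.card K = Nat.card (M.subgroupOf N) := by
        show Nat.card (N.subgroupOf M) = _
        rw [← inf_subgroupOf_right N M, Nat.card_congr (subgroupOfEquivOfLe inf_le_right).toEquiv,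
          ← inf_subgroupOf_right M N, Nat.card_congr (subgroupOfEquivOfLe inf_le_right).toEquiv, inf_comm]
      have hle : zpowers (a : G) ≤ N := zpowers_le.2 a.2
      rw [e1, hM, subgroupOf_normalizer_eq hle, show (zpowers (a : G)).subgroupOf N = zpowers a by
        rw [← comap_map_eq_self_of_injective N.subtype_injective (zpowers a), MonoidHom.map_zpowers]; rfl]
      have hn := P.card_eq_index_normalizer
      have hmod := card_sylow_modEq_one 13 N
      rw [hn] at hmod
      have hmul := (normalizer ((zpowers a : Subgroup N) : Set N)).card_mul_index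
      rw [hc] at hmul
      have h13d : 13 ∣ Nat.card (normalizer ((zpowers a : Subgroup N) : Set N)) := by
        rw [← ha, ← Nat.card_zpowers a]
        exact card_dvd_of_le le_normalizer
      obtain ⟨j, hj⟩ := h13d
      have hi1 : (normalizer ((zpowers a : Subgroup N) : Set N)).index ≠ 1 := fun e' => by
        rw [index_eq_one, normalizer_eq_top_iff] at e'
        rcases e'.eq_bot_or_eq_top with h' | h'
        · rw [zpowers_eq_bot] at h'; rw [h', orderOf_one] at ha; omega
        · have hh := Nat.card_zpowers a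
          rw [h', card_top, hc, ha] at hh
          omega
      change (normalizer ((zpowers a : Subgroup N) : Set N)).index % 13 = 1 % 13 at hmod
      generalize (normalizer ((zpowers a : Subgroup N) : Set N)).index = i at hi1 hmul hmod
      rw [hj] at hmul ⊢
      obtain ⟨t, rfl⟩ : ∃ t, i = 13 * t + 1 := ⟨i / 13, by omega⟩
      have hle84 : 13 * t + 1 ∣ 84 := ⟨j, by nlinarith⟩
      have := Nat.le_of_dvd (by norm_num) hle84
      have : t ≤ 6 := by omega
      interval_cases t <;> omega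
    have hlag : Nat.card (φ.comp K.subtype).ker * Nat.card (K.map φ) = 78 := by
      rw [← hK, ← (φ.comp K.subtype).ker.card_mul_index, index_ker, MonoidHom.range_comp, range_subtype]
    have hnd : ∀ s : ℕ, s.Prime → (s = 2 ∨ s = 3) → s ∣ Nat.card (K.map φ) := by
      intro s hs hs'
      refine (hs.dvd_mul.1 (show s ∣ Nat.card (φ.comp K.subtype).ker * Nat.card (K.map φ) by rw [hlag]; rcases hs' with rfl | rfl <;> norm_num)).resolve_left fun hd => ?_
      haveI := Fact.mk hs
      obtain ⟨u, hu⟩ := exists_prime_orderOf_dvd_card' s hd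
      have hu' : ((u : K) : M) ∈ φ.ker := u.2
      rw [normalizerMonoidHom_ker] at hu'
      obtain ⟨e1, e2⟩ := not_dvd_of_commute h (r := 13) (by norm_num) (by norm_num) (by norm_num)
        (a := (a : G)) (by rw [orderOf_coe, ha]) (mem_centralizer_iff.1 hu' _ (mem_zpowers (a : G))).symm
      simp only [Subgroup.coe_subtype, orderOf_coe, hu] at e1 e2
      rcases hs' with rfl | rfl
      · exact e1 dvd_rfl
      · exact e2 dvd_rfl
    rcases ho with rfl | rfl | rfl
    · exact hnd 2 Nat.prime_two (Or.inl rfl)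
    · exact hnd 3 Nat.prime_three (Or.inr rfl)
    · exact Nat.Coprime.mul_dvd_of_dvd_of_dvd (by norm_num) (hnd 2 Nat.prime_two (Or.inl rfl))
        (hnd 3 Nat.prime_three (Or.inr rfl))
  · obtain ⟨⟨x, hx⟩, ⟨y, hy⟩⟩ := exists_orders_odd e hodd
    rw [← hqdef] at hx hy
    -- the torus of odd order
    obtain ⟨z, k, rest, hz, hk, hU, hkq⟩ : ∃ (z : N) (k rest : ℕ), orderOf z = k ∧ (k = 2 * p + 1 ∨ k + 1 = 2 * p) ∧
        Nat.card N = k * rest ∧ ((k = 2 * p + 1 ∧ q = 4 * p + 1 ∧ rest = q * (q - 1)) ∨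
          (k + 1 = 2 * p ∧ q + 1 = 4 * p ∧ rest = q * (q + 1))) := by
      rcases hq with hq | hq
      · refine ⟨y, 2 * p + 1, q * (q - 1), by rw [hy]; omega, Or.inl rfl, ?_, Or.inl ⟨rfl, hq, rfl⟩⟩
        rw [hsq] at hcard
        have : q + 1 = 2 * (2 * p + 1) := by omega
        rw [this] at hcard
        nlinarith
      · refine ⟨x, 2 * p - 1, q * (q + 1), by rw [hx]; omega, Or.inr (by omega), ?_,
          Or.inr ⟨by omega, hq, rfl⟩⟩
        rw [hsq] at hcard
        have : q - 1 = 2 * (2 * p - 1) := by omega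
        rw [this] at hcard
        nlinarith
    obtain ⟨r, hr, hrk⟩ := Nat.exists_prime_and_dvd (show k ≠ 1 by omega)
    have hr2 : r ≠ 2 := by rintro rfl; omega
    have hrq : ¬ r ∣ q := fun hd => by
      have h2k : r ∣ 2 * k := dvd_mul_of_dvd_right hrk 2
      rcases hkq with ⟨e1, e2, -⟩ | ⟨e1, e2, -⟩
      · rw [show 2 * k = q + 1 by omega] at h2k
        exact hr.one_lt.ne' (Nat.dvd_one.1 ((Nat.dvd_add_right hd).1 h2k))
      · rw [show q = 2 * k + 1 by omega] at hd
        exact hr.one_lt.ne' (Nat.dvd_one.1 ((Nat.dvd_add_right h2k).1 hd))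
    have hrp : r ≠ p := by
      rintro rfl
      rcases hk with e1 | e1
      · exact hr.one_lt.ne' (Nat.dvd_one.1 ((Nat.dvd_add_right (dvd_mul_left r 2)).1 (e1 ▸ hrk)))
      · exact hr.one_lt.ne' (Nat.dvd_one.1 ((Nat.dvd_add_right hrk).1 (e1 ▸ dvd_mul_left r 2)))
    have hrest : ¬ r ∣ rest := fun hd => by
      rcases hkq with ⟨e1, e2, rfl⟩ | ⟨e1, e2, rfl⟩ <;> rcases hr.dvd_mul.1 hd with hd | hd
      · exact hrq hd
      · rw [show q - 1 = 4 * p by omega] at hd
        rcases hr.dvd_mul.1 hd with hd | hd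
        · exact hr2 ((Nat.prime_dvd_prime_iff_eq hr Nat.prime_two).1 (hr.dvd_of_dvd_pow (show r ∣ 2 ^ 2 from hd)))
        · exact hrp ((Nat.prime_dvd_prime_iff_eq hr h.prime).1 hd)
      · exact hrq hd
      · rw [show q + 1 = 4 * p by omega] at hd
        rcases hr.dvd_mul.1 hd with hd | hd
        · exact hr2 ((Nat.prime_dvd_prime_iff_eq hr Nat.prime_two).1 (hr.dvd_of_dvd_pow (show r ∣ 2 ^ 2 from hd)))
        · exact hrp ((Nat.prime_dvd_prime_iff_eq hr h.prime).1 hd)
    obtain ⟨a, ha, -, hconj⟩ := conj_of_coprime_part hr hz hrk hU hrest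
    refine eq_top_of_inverted h h2N hinv hr hr2 hrp ha hconj
      (inverted_of_psl e (ℓ := ℓ) (fun hd => hrq ?_)) fun hd => ?_
    · rw [ha] at hd
      rw [show q = ℓ ^ (dℓ : ℕ) from hℓq, (Nat.prime_dvd_prime_iff_eq hr hℓ).1 hd]
      exact dvd_pow_self ℓ dℓ.pos.ne'
    · -- `p ∣ r - 1` forces `q = 13`
      have hrle : r ≤ k := Nat.le_of_dvd (by omega) hrk
      obtain ⟨j, hj⟩ := hd
      have hrodd : r % 2 = 1 := Nat.odd_iff.1 (hr.odd_of_ne_two hr2)
      have hjev : 2 ∣ j := by
        have hpodd : ¬ 2 ∣ p := fun h' => h.odd ((Nat.prime_dvd_prime_iff_eq Nat.prime_two h.prime).1 h').symm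
        exact (Nat.prime_two.dvd_mul.1 (hj ▸ Nat.dvd_of_mod_eq_zero (by omega) : 2 ∣ p * j)).resolve_left hpodd
      obtain ⟨i, rfl⟩ := hjev
      have hr1 := hr.one_lt
      have hi1 : i = 1 := by
        rcases Nat.lt_or_ge i 2 with h' | h'
        · interval_cases i
          · omega
          · rfl
        · have : 4 * p ≤ p * (2 * i) := by nlinarith
          omega
      subst hi1
      rcases hkq with ⟨e1, e2, -⟩ | ⟨e1, e2, -⟩
      · -- `q = 4p + 1` with `2p + 1` prime
        have hrk' : r = 2 * p + 1 := by omega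
        have hp3' : p ≠ 3 := fun e' => h13 (by omega)
        have hmod : p % 3 = 1 ∨ p % 3 = 2 := by
          have : ¬ 3 ∣ p := fun h' => hp3' ((Nat.prime_dvd_prime_iff_eq Nat.prime_three h.prime).1 h').symm
          omega
        rcases hmod with hm | hm
        · have := (Nat.prime_dvd_prime_iff_eq Nat.prime_three hr).1 (Nat.dvd_of_mod_eq_zero (by omega))
          omega
        · have h3q : 3 ∣ q := Nat.dvd_of_mod_eq_zero (by omega)
          have hℓ3 : ℓ = 3 := ((Nat.prime_dvd_prime_iff_eq Nat.prime_three hℓ).1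
            (Nat.prime_three.dvd_of_dvd_pow (hℓq ▸ h3q))).symm
          have hq8 : q % 8 = 5 := by
            have : p % 2 = 1 := Nat.odd_iff.1 (h.prime.odd_of_ne_two h.odd)
            omega
          rw [show q = ℓ ^ (dℓ : ℕ) from hℓq, hℓ3] at hq8
          rcases Nat.even_or_odd' (dℓ : ℕ) with ⟨t, ht | ht⟩ <;> rw [ht] at hq8
          · rw [pow_mul, Nat.pow_mod] at hq8; norm_num at hq8
          · rw [pow_succ, pow_mul, Nat.mul_mod, Nat.pow_mod] at hq8; norm_num at hq8
      · omega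

end Top

/-- The structure of the groups with an element of order `2p`. -/
theorem hyp_main (h : Hyp G p) (hns : ¬ Group.IsSolvable G) (hcit : ¬ CfsgLib.CIT.IsCIT G) :
    ∃ (F : Type) (_ : Field F) (_ : Fintype F), Odd (Fintype.card F) ∧
      (Fintype.card F = 4 * p + 1 ∨ Fintype.card F + 1 = 4 * p) ∧
      Nonempty (G ≃* Matrix.ProjectiveSpecialLinearGroup (Fin 2) F) := by
  classical
  obtain ⟨N, hN, hNs, hNns⟩ := exists_simple_minimal h hns
  haveI := hN
  haveI := hNs
  have hN' := h.subgroup N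
  have hp3 := h.two_lt
  by_cases hNcit : CfsgLib.CIT.IsCIT N
  · exfalso
    obtain ⟨F, hf, hfi, n, hn, hF, ⟨e⟩⟩ := even_of_hyp hNns hNcit hN'
    letI := hf; letI := hfi
    have hT := eq_top_even h hn hF e
    subst hT
    refine hcit fun t ht c => ?_
    have h' := hNcit (⟨t, mem_top t⟩ : ↥(⊤ : Subgroup G)) (by rw [← orderOf_coe]; exact ht)
    obtain ⟨k, hk⟩ := h' ⟨⟨c, mem_top _⟩,
      mem_centralizer_singleton_iff.2 (Subtype.ext (mem_centralizer_singleton_iff.1 c.2))⟩
    exact ⟨k, Subtype.ext (congrArg (fun z => ((z : ↥(⊤ : Subgroup G)) : G))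
      (congrArg Subtype.val hk))⟩
  obtain ⟨x, hx⟩ : ∃ x : N, orderOf x = 2 * p := by
    by_contra hno
    push Not at hno
    refine hNcit (isCIT_of_no_two_mul fun r hr hr2 ⟨x, hx⟩ => ?_)
    rcases hN'.two x (hx ▸ dvd_mul_right 2 r) with e | e
    · rw [hx] at e
      have := hr.two_le
      omega
    · exact hno x e
  obtain ⟨F, hf, hfi, hodd, ⟨e⟩⟩ := hN'.psl hNns hx
  letI := hf; letI := hfi
  obtain ⟨ℓ, hℓc⟩ := CharP.exists F
  obtain ⟨dℓ, hℓ, hℓq⟩ := FiniteField.card F ℓ
  haveI := Fact.mk hℓ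
  have hspec := CfsgLib.PSL2Spec.orderOf_dvd ℓ (e x)
  rw [MulEquiv.orderOf_eq, hx] at hspec
  obtain ⟨i, hi⟩ := id hodd
  have hgcd : Nat.gcd 2 (Fintype.card F - 1) = 2 := Nat.gcd_eq_left ⟨i, by omega⟩
  rw [hgcd] at hspec
  obtain ⟨⟨u, hu⟩, ⟨w, hw⟩⟩ := exists_orders_odd e hodd
  have hlt : 1 < Fintype.card F := Fintype.one_lt_card
  have hq : Fintype.card F = 4 * p + 1 ∨ Fintype.card F + 1 = 4 * p := by
    have hbig : 2 * p ≤ (Fintype.card F + 1) / 2 := by
      rcases hspec with hd | hd | hd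
      · exfalso
        have h2 := (Nat.prime_dvd_prime_iff_eq Nat.prime_two hℓ).1 ((dvd_mul_right 2 p).trans hd)
        rw [hℓq, ← h2] at hodd
        exact Nat.not_even_iff_odd.2 hodd (Nat.even_pow.2 ⟨even_two, dℓ.pos.ne'⟩)
      · exact (Nat.le_of_dvd (by omega) hd).trans (by omega)
      · exact Nat.le_of_dvd (by omega) hd
    rcases Nat.even_or_odd' i with ⟨j, rfl | rfl⟩
    · rcases hN'.two u (hu ▸ Nat.dvd_of_mod_eq_zero (by omega)) with e' | e' <;> rw [hu] at e' <;> omega
    · rcases hN'.two w (hw ▸ Nat.dvd_of_mod_eq_zero (by omega)) with e' | e' <;> rw [hw] at e' <;> omega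
  have hT := eq_top_odd h hodd hq e
  subst hT
  exact ⟨F, hf, hfi, hodd, hq, ⟨Subgroup.topEquiv.symm.trans e⟩⟩

end CfsgLib.PrimePairs
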